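import Mathlib.GroupTheory.Sylow
import Mathlib.GroupTheory.FixedPointFree
import Mathlib.GroupTheory.GroupAction.Quotient
import Mathlib.Data.Nat.Prime.Basic

/-!
# A TI subgroup inverted by an involution

`M` is a TI subgroup, `N = N(M) = M C` with `C = C_N(z)`, the centralisers of the nontrivial elements of
`M` have odd order, and there are more involutions than cosets of `M`. Then every coset of `M` outside
`N` contains exactly one involution; hence the elements of `C(z)` outside `N` are involutions, and `C`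
is abelian and acts semiregularly on `M`.
-/

set_option autoImplicit false

namespace Cfsg.Agent.H46.TIOdd

open scoped Classical

universe u

variable {G : Type u} [Group G]

/-- An involution. -/
def Inv2 (g : G) : Prop := g * g = 1 ∧ g ≠ 1

theorem inv2_iff {g : G} : Inv2 g ↔ orderOf g = 2 := by
  rw [orderOf_eq_prime_iff, pow_two]; rfl

theorem Inv2.inv_eq {g : G} (h : Inv2 g) : g⁻¹ = g := inv_eq_of_mul_eq_one_right h.1

theorem Inv2.conj {g : G} (h : Inv2 g) (x : G) : Inv2 (x * g * x⁻¹) := by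
  refine ⟨?_, fun he => h.2 (conj_eq_one_iff.1 he)⟩
  calc x * g * x⁻¹ * (x * g * x⁻¹) = x * (g * g) * x⁻¹ := by group
    _ = 1 := by rw [h.1]; group

/-- A free action: the order of the group divides the number of points. -/
theorem card_dvd_of_free {A X : Type*} [Group A] [Finite A] [Finite X] [MulAction A X]
    (h : ∀ (a : A) (x : X), a • x = x → a = 1) : Nat.card A ∣ Nat.card X := by
  haveI := Fintype.ofFinite (Quotient (MulAction.orbitRel A X))
  rw [Nat.card_congr (MulAction.selfEquivSigmaOrbits A X), Nat.card_sigma]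
  refine Finset.dvd_sum fun ω _ => ?_
  rw [← Nat.card_congr (Equiv.ofBijective
    (fun a : A => (⟨a • ω.out, MulAction.mem_orbit _ a⟩ : MulAction.orbit A ω.out)) ⟨?_, ?_⟩)]
  · intro a b hab
    have hab' : a • ω.out = b • ω.out := congrArg Subtype.val hab
    have := h (b⁻¹ * a) ω.out (by rw [mul_smul, hab', inv_smul_smul])
    exact (inv_mul_eq_one.1 this).symm
  · rintro ⟨x, a, rfl⟩
    exact ⟨a, rfl⟩

/-- The situation. -/
structure Setup (G : Type u) [Group G] where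
  M : Subgroup G
  z : G
  hM1 : M ≠ ⊥
  hTI : ∀ g : G, ∀ x ∈ M, x ≠ 1 → g * x * g⁻¹ ∈ M → g ∈ Subgroup.normalizer (M : Set G)
  hz : Inv2 z
  hzN : z ∈ Subgroup.normalizer (M : Set G)
  hfac : M ⊔ (Subgroup.normalizer (M : Set G) ⊓ Subgroup.centralizer ({z} : Set G)) =
    Subgroup.normalizer (M : Set G)
  hodd : ∀ x ∈ M, x ≠ 1 → Odd (Nat.card ↥(Subgroup.centralizer ({x} : Set G)))
  hnot : ¬ M.Normal
  hbig : M.index < Nat.card {g : G // orderOf g = 2}

variable (D : Setup G)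

/-- The normaliser of `M`. -/
abbrev N : Subgroup G := Subgroup.normalizer (D.M : Set G)

/-- The centraliser of `z` in it. -/
abbrev C : Subgroup G := N D ⊓ Subgroup.centralizer ({D.z} : Set G)

theorem mem_C {c : G} : c ∈ C D ↔ c ∈ N D ∧ c * D.z = D.z * c := by
  rw [Subgroup.mem_inf, Subgroup.mem_centralizer_singleton_iff]

theorem z_mem_C : D.z ∈ C D := (mem_C D).2 ⟨D.hzN, rfl⟩

theorem M_le_N : D.M ≤ N D := Subgroup.le_normalizer

theorem conj_mem_M {n x : G} (hn : n ∈ N D) (hx : x ∈ D.M) : n * x * n⁻¹ ∈ D.M :=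
  (Subgroup.mem_normalizer_iff.1 hn x).1 hx

theorem exists_decomp {n : G} (hn : n ∈ N D) : ∃ m ∈ D.M, ∃ c ∈ C D, n = m * c := by
  have h : n ∈ (↑(D.M ⊔ C D) : Set G) := by
    show n ∈ D.M ⊔ C D
    rw [show D.M ⊔ C D = N D from D.hfac]; exact hn
  rw [Subgroup.coe_mul_of_right_le_normalizer_left D.M (C D) inf_le_left] at h
  obtain ⟨m, hm, c, hc, rfl⟩ := Set.mem_mul.1 h
  exact ⟨m, hm, c, hc, rfl⟩

theorem centralizer_le {x g : G} (hx : x ∈ D.M) (hx1 : x ≠ 1) (h : g * x = x * g) : g ∈ N D :=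
  D.hTI g x hx hx1 (by rw [h, mul_inv_cancel_right]; exact hx)

variable [Finite G]

theorem inv2_not_commute {x c : G} (hx : x ∈ D.M) (hx1 : x ≠ 1) (hc : Inv2 c) : c * x ≠ x * c := by
  intro h
  have hmem : c ∈ Subgroup.centralizer ({x} : Set G) := Subgroup.mem_centralizer_singleton_iff.2 h
  have hd := Subgroup.orderOf_dvd_natCard _ hmem
  rw [inv2_iff.1 hc] at hd
  exact Nat.not_even_iff_odd.2 (D.hodd x hx hx1) (even_iff_two_dvd.2 hd)

theorem fpf_conj {c : G} (hc : c ∈ N D) (hci : Inv2 c) :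
    (∀ x ∈ D.M, c * x * c⁻¹ = x⁻¹) ∧ (∀ x ∈ D.M, ∀ y ∈ D.M, x * y = y * x) ∧ Odd (Nat.card D.M) := by
  let φ : D.M →* D.M :=
    { toFun := fun x => ⟨c * x * c⁻¹, conj_mem_M D hc x.2⟩
      map_one' := by ext; simp
      map_mul' := fun x y => by ext; simp [mul_assoc] }
  have hfree : MonoidHom.FixedPointFree φ := by
    intro x hx
    by_contra h1
    have : c * (x : G) * c⁻¹ = x := congrArg Subtype.val hx
    exact inv2_not_commute D x.2 (fun h => h1 (Subtype.ext h)) hci (mul_inv_eq_iff_eq_mul.1 this)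
  have hinvol : Function.Involutive φ := by
    intro x
    apply Subtype.ext
    show c * (c * (x : G) * c⁻¹) * c⁻¹ = x
    rw [hci.inv_eq]
    calc c * (c * (x : G) * c) * c = (c * c) * x * (c * c) := by group
      _ = x := by rw [hci.1]; group
  have hco := hfree.coe_eq_inv_of_involutive hinvol
  exact ⟨fun x hx => congrArg Subtype.val (congrFun hco ⟨x, hx⟩),
    fun x hx y hy => congrArg Subtype.val (hfree.commute_all_of_involutive hinvol ⟨x, hx⟩ ⟨y, hy⟩),
    hfree.odd_card_of_involutive hinvol⟩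

theorem z_inv {x : G} (hx : x ∈ D.M) : D.z * x * D.z⁻¹ = x⁻¹ := (fpf_conj D D.hzN D.hz).1 x hx

theorem M_comm {x y : G} (hx : x ∈ D.M) (hy : y ∈ D.M) : x * y = y * x :=
  (fpf_conj D D.hzN D.hz).2.1 x hx y hy

theorem k_odd : Odd (Nat.card D.M) := (fpf_conj D D.hzN D.hz).2.2

theorem no_invol_M {x : G} (hx : x ∈ D.M) (h : x * x = 1) : x = 1 := by
  by_contra h1
  have hd := Subgroup.orderOf_dvd_natCard _ hx
  rw [inv2_iff.1 ⟨h, h1⟩] at hd
  exact Nat.not_even_iff_odd.2 (k_odd D) (even_iff_two_dvd.2 hd)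

theorem eq_one_of_MC {x : G} (hx : x ∈ D.M) (hc : x ∈ C D) : x = 1 := by
  by_contra h1
  exact inv2_not_commute D hx h1 D.hz ((mem_C D).1 hc).2.symm

theorem decomp_unique {m m' c c' : G} (hm : m ∈ D.M) (hm' : m' ∈ D.M) (hc : c ∈ C D) (hc' : c' ∈ C D)
    (h : m * c = m' * c') : m = m' ∧ c = c' := by
  have e : m'⁻¹ * m = c' * c⁻¹ := by
    rw [eq_mul_inv_iff_mul_eq, mul_assoc, h, inv_mul_cancel_left]
  have h1 := eq_one_of_MC D (D.M.mul_mem (D.M.inv_mem hm') hm)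
    (e ▸ (C D).mul_mem hc' ((C D).inv_mem hc))
  have hmm : m' = m := inv_mul_eq_one.1 h1
  subst hmm
  exact ⟨rfl, mul_left_cancel h⟩

theorem invol_C {c : G} (hc : c ∈ C D) (hci : Inv2 c) : c = D.z := by
  by_contra hne
  obtain ⟨x, hx, hx1⟩ := D.M.bot_or_exists_ne_one.resolve_left D.hM1
  obtain ⟨hcN, hcz⟩ := (mem_C D).1 hc
  have hfix : c * D.z * x = x * (c * D.z) := by
    have a := z_inv D hx
    have b := (fpf_conj D hcN hci).1 _ (D.M.inv_mem hx)
    rw [inv_inv] at b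
    rw [mul_inv_eq_iff_eq_mul] at a b
    calc c * D.z * x = c * x⁻¹ * D.z := by rw [mul_assoc, a, mul_assoc]
      _ = x * (c * D.z) := by rw [b, mul_assoc]
  refine inv2_not_commute D hx hx1 ⟨?_, fun h => hne ?_⟩ hfix
  · calc c * D.z * (c * D.z) = c * (D.z * c) * D.z := by group
      _ = (c * c) * (D.z * D.z) := by rw [← hcz]; group
      _ = 1 := by rw [hci.1, D.hz.1, one_mul]
  · rw [mul_eq_one_iff_eq_inv.1 h, D.hz.inv_eq]

theorem mul_z_invol {m : G} (hm : m ∈ D.M) : Inv2 (m * D.z) := by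
  refine ⟨?_, fun h => D.hz.2 ?_⟩
  · calc m * D.z * (m * D.z) = m * (D.z * m * D.z⁻¹) * (D.z * D.z) := by group
      _ = 1 := by rw [z_inv D hm, D.hz.1]; group
  · refine eq_one_of_MC D ?_ (z_mem_C D)
    rw [← inv_eq_of_mul_eq_one_right h]
    exact D.M.inv_mem hm

theorem invol_N {n : G} (hn : n ∈ N D) (hi : Inv2 n) : ∃ m ∈ D.M, n = m * D.z := by
  obtain ⟨m, hm, c, hc, rfl⟩ := exists_decomp D hn
  have hcN := ((mem_C D).1 hc).1
  have hh : m * (c * m * c⁻¹) * (c * c) = 1 * 1 := by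
    rw [one_mul]
    calc m * (c * m * c⁻¹) * (c * c) = m * c * (m * c) := by group
      _ = 1 := hi.1
  have h2 := (decomp_unique D (D.M.mul_mem hm (conj_mem_M D hcN hm)) D.M.one_mem
    ((C D).mul_mem hc hc) (C D).one_mem hh).2
  by_cases hc1 : c = 1
  · exfalso
    subst hc1
    rw [mul_one] at hi
    exact hi.2 (no_invol_M D hm hi.1)
  · exact ⟨m, hm, by rw [invol_C D hc ⟨h2, hc1⟩]⟩

theorem coset_unique {u v : G} (hu : Inv2 u) (hv : Inv2 v) (h : u⁻¹ * v ∈ D.M) : u = v ∨ u ∈ N D := by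
  by_cases hne : u⁻¹ * v = 1
  · exact Or.inl (inv_mul_eq_one.1 hne)
  refine Or.inr (D.hTI u _ h hne ?_)
  have e : u * (u⁻¹ * v) * u⁻¹ = (u⁻¹ * v)⁻¹ := by
    rw [mul_inv_cancel_left, mul_inv_rev, inv_inv, hu.inv_eq, hv.inv_eq]
  rw [e]; exact D.M.inv_mem h

/-- The order of `C`. -/
noncomputable abbrev l : ℕ := Nat.card ↥(C D)

/-- The order of `M`. -/
noncomputable abbrev k : ℕ := Nat.card ↥D.M

theorem card_N_inf (Y : Subgroup G) (hY : C D ≤ Y) :
    Nat.card ↥(Y ⊓ N D) = Nat.card ↥(D.M ⊓ Y) * l D := by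
  rw [← Nat.card_prod]
  refine (Nat.card_congr (Equiv.ofBijective
    (fun p : ↥(D.M ⊓ Y) × ↥(C D) => (⟨(p.1 : G) * p.2, Y.mul_mem p.1.2.2 (hY p.2.2),
      (N D).mul_mem (M_le_N D p.1.2.1) p.2.2.1⟩ : ↥(Y ⊓ N D))) ⟨?_, ?_⟩)).symm
  · intro p q h
    obtain ⟨e1, e2⟩ := decomp_unique D p.1.2.1 q.1.2.1 p.2.2 q.2.2 (congrArg Subtype.val h)
    exact Prod.ext (Subtype.ext e1) (Subtype.ext e2)
  · rintro ⟨n, hnY, hn⟩
    obtain ⟨m, hm, c, hc, rfl⟩ := exists_decomp D hn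
    have hmY : m ∈ Y := by simpa using Y.mul_mem hnY (Y.inv_mem (hY hc))
    exact ⟨(⟨m, hm, hmY⟩, ⟨c, hc⟩), rfl⟩

theorem card_inv_inf (Y : Subgroup G) (hY : C D ≤ Y) :
    Nat.card {w : G // Inv2 w ∧ w ∈ Y} =
      Nat.card {w : G // (Inv2 w ∧ w ∈ Y) ∧ w ∉ N D} + Nat.card ↥(D.M ⊓ Y) := by
  have e : Nat.card ↥(D.M ⊓ Y) = Nat.card {w : G // (Inv2 w ∧ w ∈ Y) ∧ w ∈ N D} := by
    refine Nat.card_congr (Equiv.ofBijective
      (fun m => ⟨(m : G) * D.z, ⟨mul_z_invol D m.2.1, Y.mul_mem m.2.2 (hY (z_mem_C D))⟩,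
        (N D).mul_mem (M_le_N D m.2.1) D.hzN⟩) ⟨?_, ?_⟩)
    · intro p q h
      exact Subtype.ext (mul_right_cancel (congrArg Subtype.val h))
    · rintro ⟨w, ⟨hw, hwY⟩, hwN⟩
      obtain ⟨m, hm, rfl⟩ := invol_N D hwN hw
      have hmY : m ∈ Y := by simpa using Y.mul_mem hwY (Y.inv_mem (hY (z_mem_C D)))
      exact ⟨⟨m, hm, hmY⟩, rfl⟩
  rw [e, add_comm, ← Nat.card_sum]
  refine Nat.card_congr ?_
  exact (Equiv.sumCompl fun w : {w : G // Inv2 w ∧ w ∈ Y} => (w : G) ∈ N D).symm.trans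
    (Equiv.sumCongr (Equiv.subtypeSubtypeEquivSubtypeInter _ (fun w => w ∈ N D))
      (Equiv.subtypeSubtypeEquivSubtypeInter _ (fun w => w ∉ N D)))

theorem card_split (Y : Subgroup G) :
    Nat.card Y = Nat.card {g : G // g ∈ Y ∧ g ∉ N D} + Nat.card ↥(Y ⊓ N D) := by
  rw [add_comm, ← Nat.card_sum]
  refine Nat.card_congr ?_
  exact (Equiv.sumCompl fun w : Y => (w : G) ∈ N D).symm.trans
    (Equiv.sumCongr (Equiv.subtypeSubtypeEquivSubtypeInter (· ∈ Y) (fun w => w ∈ N D))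
      (Equiv.subtypeSubtypeEquivSubtypeInter (· ∈ Y) (fun w => w ∉ N D)))

theorem injOn_prod {a b m m' : G} (ha : Inv2 a) (hb : Inv2 b) (haN : a ∉ N D) (hm : m ∈ D.M)
    (hm' : m' ∈ D.M) (h : a * m = b * m') : a = b ∧ m = m' := by
  have e : a⁻¹ * b = m * m'⁻¹ := by
    rw [eq_mul_inv_iff_mul_eq, mul_assoc, ← h, inv_mul_cancel_left]
  have hab := (coset_unique D ha hb (e ▸ D.M.mul_mem hm (D.M.inv_mem hm'))).resolve_right haN
  subst hab
  exact ⟨rfl, mul_left_cancel h⟩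

theorem main_uniq : (∀ g ∉ N D, ∃ u, Inv2 u ∧ g⁻¹ * u ∈ D.M) ∧ l D < k D := by
  have hI : Nat.card {g : G // orderOf g = 2} =
      Nat.card {w : G // (Inv2 w ∧ w ∈ (⊤ : Subgroup G)) ∧ w ∉ N D} + Nat.card ↥(D.M ⊓ ⊤) := by
    rw [← card_inv_inf D ⊤ le_top]
    exact Nat.card_congr (Equiv.subtypeEquivRight fun w => by simp [inv2_iff])
  rw [inf_top_eq] at hI
  set J := {w : G // (Inv2 w ∧ w ∈ (⊤ : Subgroup G)) ∧ w ∉ N D}
  set O := {g : G // g ∈ (⊤ : Subgroup G) ∧ g ∉ N D}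
  have hbig : Nat.card G < (Nat.card J + k D) * k D := by
    rw [← D.M.index_mul_card, ← hI]
    exact Nat.mul_lt_mul_of_pos_right D.hbig Nat.card_pos
  have hG : Nat.card G = Nat.card O + k D * l D := by
    have := card_split D ⊤
    rwa [card_N_inf D ⊤ le_top, Subgroup.card_top, inf_top_eq] at this
  let f : J × D.M → O := fun p => ⟨(p.1 : G) * p.2, Subgroup.mem_top _, fun h => p.1.2.2 (by
    have := (N D).mul_mem h ((N D).inv_mem (M_le_N D p.2.2))
    rwa [mul_inv_cancel_right] at this)⟩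
  have hf : Function.Injective f := fun p q h => by
    obtain ⟨e1, e2⟩ := injOn_prod D p.1.2.1.1 q.1.2.1.1 p.1.2.2 p.2.2 q.2.2 (congrArg Subtype.val h)
    exact Prod.ext (Subtype.ext e1) (Subtype.ext e2)
  have hle := Nat.card_le_card_of_injective f hf
  rw [Nat.card_prod] at hle
  refine ⟨fun g hg => ?_, ?_⟩
  · by_contra hno
    push Not at hno
    have key : ∀ a b a' b' : G, a ∈ D.M → b ∈ D.M → a' ∈ D.M → b' ∈ D.M →
        a * g * b = a' * g * b' → a = a' ∧ b = b' := by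
      intro a b a' b' ha hb ha' hb' h
      have e : g⁻¹ * (a'⁻¹ * a) * g = b' * b⁻¹ := by
        rw [eq_mul_inv_iff_mul_eq,
          show g⁻¹ * (a'⁻¹ * a) * g * b = g⁻¹ * a'⁻¹ * (a * g * b) by group, h]
        group
      have hx : a'⁻¹ * a = 1 := by
        by_contra hx1
        refine hg ((N D).inv_mem_iff.1 (D.hTI g⁻¹ _ (D.M.mul_mem (D.M.inv_mem ha') ha) hx1 ?_))
        rw [inv_inv, e]; exact D.M.mul_mem hb' (D.M.inv_mem hb)
      have haa : a' = a := inv_mul_eq_one.1 hx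
      subst haa
      exact ⟨rfl, mul_left_cancel h⟩
    let f' : (J × D.M) ⊕ (D.M × D.M) → O := Sum.elim f fun p =>
      ⟨(p.1 : G) * g * p.2, Subgroup.mem_top _, fun h => hg (by
        have := (N D).mul_mem ((N D).mul_mem ((N D).inv_mem (M_le_N D p.1.2)) h)
          ((N D).inv_mem (M_le_N D p.2.2))
        simpa [mul_assoc] using this)⟩
    have hf' : Function.Injective f' := by
      apply Function.Injective.sumElim hf
      · intro p q h
        obtain ⟨e1, e2⟩ := key _ _ _ _ p.1.2 p.2.2 q.1.2 q.2.2 (congrArg Subtype.val h)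
        exact Prod.ext (Subtype.ext e1) (Subtype.ext e2)
      · intro p q h
        have e : (p.1 : G) * p.2 = q.1 * g * q.2 := congrArg Subtype.val h
        refine hno ((q.1 : G)⁻¹ * p.1 * q.1) (by simpa using p.1.2.1.1.conj (q.1 : G)⁻¹) ?_
        rw [show (p.1 : G) = (q.1 : G) * g * q.2 * (p.2 : G)⁻¹ by rw [← e]; group]
        have : g⁻¹ * ((q.1 : G)⁻¹ * ((q.1 : G) * g * q.2 * (p.2 : G)⁻¹) * q.1) =
            (q.2 : G) * (p.2 : G)⁻¹ * q.1 := by group
        rw [this]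
        exact D.M.mul_mem (D.M.mul_mem q.2.2 (D.M.inv_mem p.2.2)) q.1.2
    have hle' := Nat.card_le_card_of_injective f' hf'
    rw [Nat.card_sum, Nat.card_prod, Nat.card_prod] at hle'
    nlinarith [Nat.zero_le (k D * l D)]
  · by_contra hlk
    push Not at hlk
    have := Nat.mul_le_mul_left (k D) hlk
    nlinarith

theorem exists_u {g : G} (hg : g ∉ N D) : ∃ u, Inv2 u ∧ g⁻¹ * u ∈ D.M ∧ u ∉ N D := by
  obtain ⟨u, hu, hm⟩ := (main_uniq D).1 g hg
  refine ⟨u, hu, hm, fun h => hg ?_⟩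
  have := (N D).mul_mem h ((N D).inv_mem (M_le_N D hm))
  simpa using this

theorem l_lt_k : l D < k D := (main_uniq D).2

theorem l_even : Even (l D) := by
  rw [even_iff_two_dvd, ← inv2_iff.1 D.hz]
  exact Subgroup.orderOf_dvd_natCard _ (z_mem_C D)

theorem conj_z_of_Y (Y : Subgroup G) (hCY : C D ≤ Y) (hYC : ∀ y ∈ Y, y * D.z = D.z * y → y ∈ C D)
    {w : G} (hw : Inv2 w) (hwY : w ∈ Y) : ∃ y ∈ Y, y * D.z * y⁻¹ = w := by
  haveI : Fact (Nat.Prime 2) := ⟨Nat.prime_two⟩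
  set zY : Y := ⟨D.z, hCY (z_mem_C D)⟩ with hzY
  set wY : Y := ⟨w, hwY⟩ with hwY'
  have hz2 : IsPGroup 2 (Subgroup.zpowers zY) := IsPGroup.of_card (n := 1) (by
    rw [Nat.card_zpowers, ← Subgroup.orderOf_coe, pow_one]; exact inv2_iff.1 D.hz)
  have hw2 : IsPGroup 2 (Subgroup.zpowers wY) := IsPGroup.of_card (n := 1) (by
    rw [Nat.card_zpowers, ← Subgroup.orderOf_coe, pow_one]; exact inv2_iff.1 hw)
  obtain ⟨P, hP⟩ := hz2.exists_le_sylow
  obtain ⟨Q, hQ⟩ := hw2.exists_le_sylow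
  have hzP : zY ∈ (P : Subgroup Y) := hP (Subgroup.mem_zpowers _)
  haveI : Nontrivial ↥(P : Subgroup Y) :=
    ⟨⟨⟨zY, hzP⟩, 1, fun h => D.hz.2 (congrArg (fun a : ↥(P : Subgroup Y) => ((a : Y) : G)) h)⟩⟩
  obtain ⟨n, hn0, hn⟩ := IsPGroup.nontrivial_iff_card (P.2.to_subgroup (Subgroup.center _)) |>.1
    (IsPGroup.center_nontrivial P.2)
  obtain ⟨y, hy⟩ := exists_prime_orderOf_dvd_card' (G := ↥(Subgroup.center ↥(P : Subgroup Y))) 2
    (by rw [hn]; exact dvd_pow_self 2 (by omega))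
  have hyo : Inv2 ((((y : ↥(P : Subgroup Y)) : Y) : G)) := by
    rw [inv2_iff, Subgroup.orderOf_coe, Subgroup.orderOf_coe, Subgroup.orderOf_coe, hy]
  have hyz : (((y : ↥(P : Subgroup Y)) : Y) : G) = D.z := by
    refine invol_C D (hYC _ ((y : ↥(P : Subgroup Y)) : Y).2 ?_) hyo
    exact (congrArg (fun a : ↥(P : Subgroup Y) => ((a : Y) : G))
      (Subgroup.mem_center_iff.1 y.2 ⟨zY, hzP⟩)).symm
  have hPu : ∀ p ∈ (P : Subgroup Y), Inv2 (p : G) → (p : G) = D.z := by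
    intro p hp hpi
    refine invol_C D (hYC _ p.2 ?_) hpi
    rw [← hyz]
    exact congrArg (fun a : ↥(P : Subgroup Y) => ((a : Y) : G)) (Subgroup.mem_center_iff.1 y.2 ⟨p, hp⟩)
  obtain ⟨g, hg⟩ := MulAction.exists_smul_eq Y Q P
  have hgw : g * wY * g⁻¹ ∈ (P : Subgroup Y) := by
    rw [← hg, Sylow.coe_subgroup_smul]
    exact Subgroup.smul_mem_pointwise_smul wY (MulAut.conj g) _ (hQ (Subgroup.mem_zpowers _))
  have hwz : (g : G) * w * (g : G)⁻¹ = D.z := hPu _ hgw (hw.conj g)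
  exact ⟨(g : G)⁻¹, Y.inv_mem g.2, by rw [← hwz]; group⟩

theorem small (Y : Subgroup G) (hCY : C D ≤ Y) (hYC : ∀ y ∈ Y, y * D.z = D.z * y → y ∈ C D)
    (hstab : ∀ g ∈ Y, g ∉ N D → ∀ u, Inv2 u → g⁻¹ * u ∈ D.M → u ∈ Y) :
    Y ≤ N D ∨ Nat.card ↥(D.M ⊓ Y) = l D := by
  set J := {w : G // (Inv2 w ∧ w ∈ Y) ∧ w ∉ N D}
  set O := {g : G // g ∈ Y ∧ g ∉ N D}
  have hO : Nat.card O = Nat.card J * Nat.card ↥(D.M ⊓ Y) := by
    rw [← Nat.card_prod]
    refine (Nat.card_congr (Equiv.ofBijective (fun p : J × ↥(D.M ⊓ Y) =>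
      (⟨(p.1 : G) * p.2, Y.mul_mem p.1.2.1.2 p.2.2.2, fun h => p.1.2.2 (by
        have := (N D).mul_mem h ((N D).inv_mem (M_le_N D p.2.2.1))
        rwa [mul_inv_cancel_right] at this)⟩ : O)) ⟨?_, ?_⟩)).symm
    · intro p q h
      obtain ⟨e1, e2⟩ := injOn_prod D p.1.2.1.1 q.1.2.1.1 p.1.2.2 p.2.2.1 q.2.2.1
        (congrArg Subtype.val h)
      exact Prod.ext (Subtype.ext e1) (Subtype.ext e2)
    · rintro ⟨g, hgY, hgN⟩
      obtain ⟨u, hu, hm, huN⟩ := exists_u D hgN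
      have huY := hstab g hgY hgN u hu hm
      have hmY : g⁻¹ * u ∈ Y := Y.mul_mem (Y.inv_mem hgY) huY
      exact ⟨(⟨u, ⟨hu, huY⟩, huN⟩, ⟨(g⁻¹ * u)⁻¹, D.M.inv_mem hm, Y.inv_mem hmY⟩),
        Subtype.ext (by show u * (g⁻¹ * u)⁻¹ = g; group)⟩
  have hcl : Nat.card {w : G // Inv2 w ∧ w ∈ Y} * l D = Nat.card Y := by
    set CY := (C D).subgroupOf Y
    have hbij : Nat.card (Y ⧸ CY) = Nat.card {w : G // Inv2 w ∧ w ∈ Y} := by
      refine Nat.card_congr (Equiv.ofBijective (fun q => (⟨(q.out : G) * D.z * (q.out : G)⁻¹,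
        D.hz.conj _, Y.mul_mem (Y.mul_mem q.out.2 (hCY (z_mem_C D))) (Y.inv_mem q.out.2)⟩ :
          {w : G // Inv2 w ∧ w ∈ Y})) ⟨?_, ?_⟩)
      · intro q r hqr
        have e : (q.out : G) * D.z * (q.out : G)⁻¹ = (r.out : G) * D.z * (r.out : G)⁻¹ :=
          congrArg Subtype.val hqr
        rw [← q.out_eq', ← r.out_eq', QuotientGroup.eq, Subgroup.mem_subgroupOf]
        refine hYC _ (Y.mul_mem (Y.inv_mem q.out.2) r.out.2) ?_
        show (q.out : G)⁻¹ * (r.out : G) * D.z = D.z * ((q.out : G)⁻¹ * r.out)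
        calc (q.out : G)⁻¹ * (r.out : G) * D.z
            = (q.out : G)⁻¹ * ((r.out : G) * D.z * (r.out : G)⁻¹) * r.out := by group
          _ = D.z * ((q.out : G)⁻¹ * r.out) := by rw [← e]; group
      · rintro ⟨w, hw, hwY⟩
        obtain ⟨y, hy, rfl⟩ := conj_z_of_Y D Y hCY hYC hw hwY
        refine ⟨((⟨y, hy⟩ : Y) : Y ⧸ CY), Subtype.ext ?_⟩
        obtain ⟨c, hc⟩ := QuotientGroup.mk_out_eq_mul CY (⟨y, hy⟩ : Y)
        show ((((⟨y, hy⟩ : Y) : Y ⧸ CY).out : Y) : G) * D.z * (_ : G)⁻¹ = _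
        rw [hc, Subgroup.coe_mul]
        have hcc := ((mem_C D).1 c.2).2
        calc y * ((c : Y) : G) * D.z * (y * ((c : Y) : G))⁻¹
            = y * (((c : Y) : G) * D.z) * ((c : Y) : G)⁻¹ * y⁻¹ := by group
          _ = y * D.z * y⁻¹ := by
            rw [show ((c : Y) : G) * D.z = D.z * ((c : Y) : G) from hcc]; group
    rw [← hbij, ← CY.index_eq_card, ← CY.index_mul_card]
    congr 1
    exact (Nat.card_congr (Subgroup.subgroupOfEquivOfLe hCY).toEquiv).symm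
  have h1 := card_split D Y
  rw [card_N_inf D Y hCY, hO, ← hcl, card_inv_inf D Y hCY] at h1
  rcases eq_or_ne (Nat.card J) 0 with hJ | hJ
  · left
    intro y hy
    by_contra hyN
    rw [hJ, zero_mul] at hO
    haveI : Nonempty O := ⟨⟨y, hy, hyN⟩⟩
    exact (Nat.card_pos (α := O)).ne' hO
  · right
    have : Nat.card J * Nat.card ↥(D.M ⊓ Y) = Nat.card J * l D := by linarith
    exact Nat.eq_of_mul_eq_mul_left (Nat.pos_of_ne_zero hJ) this

theorem N_ne_top : N D ≠ ⊤ := fun h => D.hnot (Subgroup.normalizer_eq_top_iff.1 h)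

/-- Elements of `C(z)` outside `N` are involutions. -/
theorem outside_invol {g : G} (hgz : g * D.z = D.z * g) (hgN : g ∉ N D) : Inv2 g := by
  obtain ⟨u, hu, hm, -⟩ := exists_u D hgN
  have hu' := hu.conj D.z
  have hm' : g⁻¹ * (D.z * u * D.z⁻¹) ∈ D.M := by
    have e : g⁻¹ * (D.z * u * D.z⁻¹) = D.z * (g⁻¹ * u) * D.z⁻¹ := by
      rw [show g⁻¹ * (D.z * u * D.z⁻¹) = (g⁻¹ * D.z) * u * D.z⁻¹ by group,
        show g⁻¹ * D.z = D.z * g⁻¹ by rw [eq_mul_inv_iff_mul_eq, mul_assoc, ← hgz, inv_mul_cancel_left]]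
      group
    rw [e]
    exact conj_mem_M D D.hzN hm
  have huu : D.z * u * D.z⁻¹ = u := by
    refine (coset_unique D hu' hu ?_).resolve_right fun h => hgN ?_
    · have := D.M.mul_mem (D.M.inv_mem hm') hm
      rwa [mul_inv_rev, inv_inv, mul_assoc, mul_inv_cancel_left] at this
    · have := (N D).mul_mem h ((N D).inv_mem (M_le_N D hm'))
      simpa [mul_assoc] using this
  have huz : u * D.z = D.z * u := (mul_inv_eq_iff_eq_mul.1 huu).symm
  have : g⁻¹ * u = 1 := by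
    refine eq_one_of_MC D hm ((mem_C D).2 ⟨M_le_N D hm, ?_⟩)
    rw [mul_assoc, huz, ← mul_assoc, ← mul_assoc]
    congr 1
    rw [eq_mul_inv_iff_mul_eq, mul_assoc, ← hgz, inv_mul_cancel_left]
  rwa [inv_mul_eq_one.1 this]

theorem exists_outside : ∃ u, u * D.z = D.z * u ∧ u ∉ N D := by
  by_contra hno
  push Not at hno
  rcases small D ⊤ le_top (fun y _ hy => (mem_C D).2 ⟨hno y hy, hy⟩) (fun _ _ _ u _ _ => Subgroup.mem_top u)
    with h | h
  · exact N_ne_top D (top_le_iff.1 h)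
  · rw [inf_top_eq] at h
    exact (l_lt_k D).ne h.symm

/-- A chosen involution of `C(z)` outside `N`. -/
noncomputable def w : G := (exists_outside D).choose

theorem w_comm : w D * D.z = D.z * w D := (exists_outside D).choose_spec.1

theorem w_notMem : w D ∉ N D := (exists_outside D).choose_spec.2

theorem w_invol : Inv2 (w D) := outside_invol D (w_comm D) (w_notMem D)

theorem inverted {h : G} (hz : h * D.z = D.z * h) (hh : h ∉ N D) {c : G} (hc : c ∈ C D) :
    h * c * h⁻¹ = c⁻¹ := by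
  have hhi := outside_invol D hz hh
  have hci := outside_invol D (g := h * c)
    (by rw [mul_assoc, ((mem_C D).1 hc).2, ← mul_assoc, hz, mul_assoc])
    (fun hm => hh (by simpa using (N D).mul_mem hm ((N D).inv_mem hc.1)))
  rw [hhi.inv_eq, eq_inv_iff_mul_eq_one]
  exact (by group : h * c * h * c = h * c * (h * c)).trans hci.1

theorem C_comm {a b : G} (ha : a ∈ C D) (hb : b ∈ C D) : a * b = b * a := by
  have e := inverted D (w_comm D) (w_notMem D) ((C D).mul_mem ha hb)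
  rw [show w D * (a * b) * (w D)⁻¹ = (w D * a * (w D)⁻¹) * (w D * b * (w D)⁻¹) by group,
    inverted D (w_comm D) (w_notMem D) ha, inverted D (w_comm D) (w_notMem D) hb] at e
  exact inv_injective (by rw [← e, mul_inv_rev])

theorem cent_z_cases : (∀ c ∈ C D, c = 1 ∨ c = D.z) ∨
    ∀ h, h * D.z = D.z * h → h ∈ C D ∨ w D * h ∈ C D := by
  by_cases hsmall : ∀ c ∈ C D, c = 1 ∨ c = D.z
  · exact Or.inl hsmall
  right
  intro h hz
  by_contra hcon
  push Not at hcon
  obtain ⟨h1, h2⟩ := hcon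
  have hh : h ∉ N D := fun hm => h1 ((mem_C D).2 ⟨hm, hz⟩)
  have hwz : w D * h * D.z = D.z * (w D * h) := by
    rw [mul_assoc, hz, ← mul_assoc, w_comm, mul_assoc]
  have hwh : w D * h ∉ N D := fun hm => h2 ((mem_C D).2 ⟨hm, hwz⟩)
  refine hsmall fun c hc => ?_
  have a := inverted D (w_comm D) (w_notMem D) ((C D).inv_mem hc)
  have b := inverted D hz hh hc
  have e := inverted D hwz hwh hc
  rw [show w D * h * c * (w D * h)⁻¹ = w D * (h * c * h⁻¹) * (w D)⁻¹ by group, b, a, inv_inv] at e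
  by_cases hc1 : c = 1
  · exact Or.inl hc1
  · exact Or.inr (invol_C D hc ⟨eq_inv_iff_mul_eq_one.1 e, hc1⟩)

theorem semiregular {c x : G} (hc : c ∈ C D) (hx : x ∈ D.M) (hx1 : x ≠ 1) (h : c * x = x * c) : c = 1 := by
  by_contra hc1
  have hco : c * c ≠ 1 := fun h2 => inv2_not_commute D hx hx1 ⟨h2, hc1⟩ h
  set Y := Subgroup.centralizer ({c} : Set G) with hY
  have hmemY : ∀ {y : G}, y ∈ Y ↔ y * c = c * y := fun {y} => Subgroup.mem_centralizer_singleton_iff
  have hCY : C D ≤ Y := fun a ha => hmemY.2 (C_comm D ha hc)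
  have hYC : ∀ y ∈ Y, y * D.z = D.z * y → y ∈ C D := by
    intro y hy hyz
    by_contra hyC
    have hyN : y ∉ N D := fun hm => hyC ((mem_C D).2 ⟨hm, hyz⟩)
    have e := inverted D hyz hyN hc
    rw [hmemY.1 hy, mul_inv_cancel_right] at e
    exact hco (eq_inv_iff_mul_eq_one.1 e)
  have hcN : c ∈ N D := hc.1
  have hstab : ∀ g ∈ Y, g ∉ N D → ∀ u, Inv2 u → g⁻¹ * u ∈ D.M → u ∈ Y := by
    intro g hg hgN u hu hm
    have hgc := hmemY.1 hg
    have hm' : g⁻¹ * (c * u * c⁻¹) ∈ D.M := by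
      have e : g⁻¹ * (c * u * c⁻¹) = c * (g⁻¹ * u) * c⁻¹ := by
        rw [show g⁻¹ * (c * u * c⁻¹) = (g⁻¹ * c) * u * c⁻¹ by group,
          show g⁻¹ * c = c * g⁻¹ by rw [eq_mul_inv_iff_mul_eq, mul_assoc, ← hgc, inv_mul_cancel_left]]
        group
      rw [e]; exact conj_mem_M D hcN hm
    have huu : c * u * c⁻¹ = u := by
      refine (coset_unique D (hu.conj c) hu ?_).resolve_right fun h' => hgN ?_
      · have := D.M.mul_mem (D.M.inv_mem hm') hm
        rwa [mul_inv_rev, inv_inv, mul_assoc, mul_inv_cancel_left] at this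
      · have := (N D).mul_mem h' ((N D).inv_mem (M_le_N D hm'))
        simpa [mul_assoc] using this
    exact hmemY.2 (mul_inv_eq_iff_eq_mul.1 huu).symm
  rcases small D Y hCY hYC hstab with hle | hk
  · have hwc := inverted D (w_comm D) (w_notMem D) hc
    rw [mul_inv_eq_iff_eq_mul] at hwc
    have hxc : x * c⁻¹ = c⁻¹ * x := by
      rw [eq_inv_mul_iff_mul_eq, ← mul_assoc, h, mul_inv_cancel_right]
    have hx'Y : w D * x * w D ∈ Y := by
      rw [hmemY]
      have hcw : c * w D = w D * c⁻¹ := by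
        calc c * w D = (c⁻¹)⁻¹ * w D := by rw [inv_inv]
          _ = w D * c⁻¹ := by
            rw [inv_mul_eq_iff_eq_mul, ← mul_assoc, ← hwc, mul_inv_cancel_right]
      calc w D * x * w D * c = w D * x * (c⁻¹ * w D) := by rw [mul_assoc, hwc]
        _ = w D * (x * c⁻¹) * w D := by group
        _ = w D * c⁻¹ * x * w D := by rw [hxc]; group
        _ = c * (w D * x * w D) := by rw [← hcw]; group
    have hx'N := hle hx'Y
    obtain ⟨m, hm, c', hc', he⟩ := exists_decomp D hx'N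
    have hzx : D.z * (w D * x * w D) * D.z⁻¹ = (w D * x * w D)⁻¹ := by
      have hwzw : ∀ a : G, D.z * (w D * a * w D) * D.z⁻¹ = w D * (D.z * a * D.z⁻¹) * w D := by
        intro a
        calc D.z * (w D * a * w D) * D.z⁻¹ = (D.z * w D) * a * (w D * D.z⁻¹) := by group
          _ = (w D * D.z) * a * (D.z⁻¹ * w D) := by
              rw [← w_comm D, D.hz.inv_eq, w_comm D]
          _ = w D * (D.z * a * D.z⁻¹) * w D := by group
      rw [hwzw, z_inv D hx, mul_inv_rev, mul_inv_rev, (w_invol D).inv_eq, mul_assoc]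
    rw [he] at hzx
    have hc'z := ((mem_C D).1 hc').2
    rw [show D.z * (m * c') * D.z⁻¹ = (D.z * m * D.z⁻¹) * (D.z * c' * D.z⁻¹) by group, z_inv D hm,
      ← hc'z, mul_inv_cancel_right, mul_inv_rev] at hzx
    have hcc : m⁻¹ * c' = (c'⁻¹ * m⁻¹ * c') * c'⁻¹ := by rw [hzx]; group
    have hcc2 := (decomp_unique D (D.M.inv_mem hm)
      (by simpa [mul_assoc] using conj_mem_M D ((N D).inv_mem hc'.1) (D.M.inv_mem hm))
      hc' ((C D).inv_mem hc') hcc).2
    have hxne : w D * x * w D ≠ 1 := by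
      intro h'
      apply hx1
      calc x = (w D)⁻¹ * (w D * x * w D) * (w D)⁻¹ := by group
        _ = 1 := by rw [h', (w_invol D).inv_eq, mul_one]; exact (w_invol D).1
    have hord : orderOf (w D * x * w D) = orderOf x := by
      rw [show w D * x * w D = MulAut.conj (w D) x by
        rw [MulAut.conj_apply, (w_invol D).inv_eq]]
      exact MulEquiv.orderOf_eq _ _
    by_cases hc'1 : c' = 1
    · subst hc'1
      rw [mul_one] at he
      refine w_notMem D (D.hTI (w D) x hx hx1 ?_)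
      rw [(w_invol D).inv_eq, he]; exact hm
    · have hi : Inv2 (w D * x * w D) := by
        rw [he, invol_C D hc' ⟨eq_inv_iff_mul_eq_one.1 hcc2, hc'1⟩]
        exact mul_z_invol D hm
      have hd := Subgroup.orderOf_dvd_natCard _ hx
      rw [← hord, inv2_iff.1 hi] at hd
      exact Nat.not_even_iff_odd.2 (k_odd D) (even_iff_two_dvd.2 hd)
  · have hd : Nat.card ↥(D.M ⊓ Y) ∣ k D := Subgroup.card_dvd_of_le inf_le_left
    have := (k_odd D).of_dvd_nat hd
    rw [hk] at this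
    exact Nat.not_even_iff_odd.2 this (l_even D)

theorem centralizer_eq {x g : G} (hx : x ∈ D.M) (hx1 : x ≠ 1) : g * x = x * g ↔ g ∈ D.M := by
  constructor
  · intro h
    obtain ⟨m, hm, c, hc, rfl⟩ := exists_decomp D (centralizer_le D hx hx1 h)
    have : c * x = x * c := by
      apply mul_left_cancel (a := m)
      rw [← mul_assoc, h, ← mul_assoc, ← mul_assoc, M_comm D hx hm]
    rw [semiregular D hc hx hx1 this, mul_one]
    exact hm
  · exact fun hg => M_comm D hg hx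

theorem l_dvd : l D ∣ k D - 1 := by
  let X := {m : D.M // m ≠ 1}
  letI : MulAction ↥(C D) X :=
    { smul := fun c m => ⟨⟨(c : G) * (m.1 : G) * (c : G)⁻¹, conj_mem_M D c.2.1 m.1.2⟩, fun h => m.2 (by
        have := congrArg Subtype.val h
        exact Subtype.ext (conj_eq_one_iff.1 this))⟩
      one_smul := fun m => by apply Subtype.ext; apply Subtype.ext; show (1 : G) * _ * (1 : G)⁻¹ = _; simp
      mul_smul := fun a b m => by
        apply Subtype.ext; apply Subtype.ext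
        show ((a : G) * b) * _ * ((a : G) * b)⁻¹ = (a : G) * ((b : G) * _ * (b : G)⁻¹) * (a : G)⁻¹
        group }
  have hX : Nat.card X = k D - 1 := by
    haveI := Fintype.ofFinite D.M
    rw [Nat.card_eq_fintype_card, Fintype.card_subtype_compl, Fintype.card_subtype_eq,
      ← Nat.card_eq_fintype_card]
  rw [← hX]
  refine card_dvd_of_free fun c m h => ?_
  have e : (c : G) * (m.1 : G) * (c : G)⁻¹ = m.1 := congrArg (fun a : X => ((a.1 : D.M) : G)) h
  exact Subtype.ext (semiregular D c.2 m.1.2 (fun h' => m.2 (Subtype.ext h'))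
    (mul_inv_eq_iff_eq_mul.1 e))

theorem coprime_lk : (l D).Coprime (k D) := by
  have h := l_dvd D
  have hk : 0 < k D := Nat.card_pos
  apply Nat.Coprime.coprime_dvd_left h
  rw [Nat.coprime_self_sub_left hk]
  exact Nat.coprime_one_left _

theorem mem_M_of_pow {n : G} (hn : n ∈ N D) (h : n ^ k D = 1) : n ∈ D.M := by
  obtain ⟨m, hm, c, hc, rfl⟩ := exists_decomp D hn
  have hp : ∀ j : ℕ, ∃ m' ∈ D.M, (m * c) ^ j = m' * c ^ j := by
    intro j
    induction j with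
    | zero => exact ⟨1, D.M.one_mem, by simp⟩
    | succ j ih =>
      obtain ⟨m', hm', e⟩ := ih
      refine ⟨m' * (c ^ j * m * (c ^ j)⁻¹), D.M.mul_mem hm' (conj_mem_M D ((N D).pow_mem hc.1 j) hm), ?_⟩
      rw [pow_succ, e, pow_succ]; group
  obtain ⟨m', hm', e⟩ := hp (k D)
  rw [h] at e
  have h1 : c ^ k D = 1 := (decomp_unique D D.M.one_mem hm' (C D).one_mem ((C D).pow_mem hc _)
    (by rw [← e, one_mul])).2.symm
  have hc1 : c = 1 := orderOf_eq_one_iff.1 (Nat.eq_one_of_dvd_coprimes (coprime_lk D)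
    (Subgroup.orderOf_dvd_natCard _ hc) (orderOf_dvd_of_pow_eq_one h1))
  rw [hc1, mul_one]; exact hm

end Cfsg.Agent.H46.TIOdd
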