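import Cfsg.Agent.H46.TIOdd.Points
import Cfsg.Agent.H27.ProjLine
import Cfsg.Agent.Frobenius.TwoFrobenius
import Cfsg.Agent.H24.Solv
import Cfsg.Agent.PGroups.TwoGroups
import Cfsg.Agent.PGroups.Burnside
import Cfsg.Agent.Linear.Order
import Cfsg.Agent.S2202
import Cfsg.Agent.S0563

/-!
# A TI subgroup inverted by an involution: the case `C_N(z) = ⟨z⟩`

The centraliser of `z` is elementary abelian of order `q = 2 m`, and `|M|` is `q + 1` or `m + 1`. In the
first case `G` is `PSL(2, q)`; in the second `G` is an elementary abelian group of order `m²` extended by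
a dihedral group.
-/

set_option autoImplicit false

namespace Cfsg.Agent.H46.TIOdd

universe u

variable {G : Type u} [Group G] [Finite G] (D : Setup G)

theorem C_two (hl : l D = 2) {c : G} (hc : c ∈ C D) : c = 1 ∨ c = D.z := by
  have hd := Subgroup.orderOf_dvd_natCard _ hc
  rw [show Nat.card ↥(C D) = 2 from hl] at hd
  rcases (Nat.dvd_prime Nat.prime_two).1 hd with h | h
  · exact Or.inl (orderOf_eq_one_iff.1 h)
  · exact Or.inr (invol_C D hc (inv2_iff.2 h))

theorem cent_sq (hl : l D = 2) {g : G} (hg : g * D.z = D.z * g) : g * g = 1 := by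
  by_cases hN : g ∈ N D
  · rcases C_two D hl ((mem_C D).2 ⟨hN, hg⟩) with rfl | rfl
    · exact one_mul 1
    · exact D.hz.1
  · exact (outside_invol D hg hN).1

theorem exists_n (hl : l D = 2) : ∃ n, 2 ≤ n ∧ l D + a D = 2 ^ n := by
  haveI : Fact (Nat.Prime 2) := ⟨Nat.prime_two⟩
  have hp : IsPGroup 2 ↥(Subgroup.centralizer ({D.z} : Set G)) := fun g => ⟨1, by
    apply Subtype.ext
    rw [pow_one, pow_two, Subgroup.coe_mul]
    exact cent_sq D hl (Subgroup.mem_centralizer_singleton_iff.1 g.2)⟩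
  obtain ⟨n, hn⟩ := IsPGroup.iff_card.1 hp
  rw [card_cent_z] at hn
  refine ⟨n, ?_, hn⟩
  by_contra hlt
  have := a_pos D
  rw [hl] at hn
  interval_cases n <;> omega

theorem inf_bot_of_coprime {A B : Subgroup G} (h : (Nat.card A).Coprime (Nat.card B)) : A ⊓ B = ⊥ :=
  Subgroup.card_eq_one.1 (Nat.eq_one_of_dvd_coprimes h (Subgroup.card_dvd_of_le inf_le_left)
    (Subgroup.card_dvd_of_le inf_le_right))

/-- The case of `PSL(2, 2 m)`. -/
theorem two_big {n : ℕ} (hl : l D = 2) (hn : 2 ≤ n) (ha : l D + a D = 2 ^ n) (hk : k D = 2 ^ n + 1) :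
    ∃ (F : Type) (_ : Field F) (_ : Fintype F) (e : ℕ), 1 < e ∧ Fintype.card F = 2 ^ e ∧ IsCyclic ↥D.M ∧
      Nat.card D.M = 2 ^ e + 1 ∧ Nonempty (G ≃* Matrix.ProjectiveSpecialLinearGroup (Fin 2) F) := by
  haveI : Fact (Nat.Prime 2) := ⟨Nat.prime_two⟩
  have hconj : ∀ t : G, Inv2 t → IsConj D.z t := fun t ht => all_conj D (by rw [ha, hk]) ht
  have hab : ∀ t : G, orderOf t = 2 → IsMulCommutative ↥(Subgroup.centralizer ({t} : Set G)) := by
    intro t ht
    obtain ⟨g, rfl⟩ := isConj_iff.1 (hconj t (inv2_iff.2 ht))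
    have hsq : ∀ x ∈ Subgroup.centralizer ({g * D.z * g⁻¹} : Set G), x * x = 1 := by
      intro x hx
      have hx' := Subgroup.mem_centralizer_singleton_iff.1 hx
      have := cent_sq D hl (g := g⁻¹ * x * g) (by
        calc g⁻¹ * x * g * D.z = g⁻¹ * (x * (g * D.z * g⁻¹)) * g := by group
          _ = D.z * (g⁻¹ * x * g) := by rw [hx']; group)
      calc x * x = g * (g⁻¹ * x * g * (g⁻¹ * x * g)) * g⁻¹ := by group
        _ = 1 := by rw [this]; group
    refine ⟨⟨fun x y => Subtype.ext ?_⟩⟩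
    have h1 := hsq _ x.2
    have h2 := hsq _ y.2
    have h3 := hsq _ (Subgroup.mul_mem _ x.2 y.2)
    calc (x : G) * y = (x : G)⁻¹ * (y : G)⁻¹ := by
          rw [inv_eq_of_mul_eq_one_right h1, inv_eq_of_mul_eq_one_right h2]
      _ = ((y : G) * x)⁻¹ := (mul_inv_rev _ _).symm
      _ = (y : G) * x := inv_eq_of_mul_eq_one_right (hsq _ (Subgroup.mul_mem _ y.2 x.2))
  have heven : Even (Nat.card G) := by
    rw [even_iff_two_dvd, ← inv2_iff.1 D.hz]
    exact orderOf_dvd_natCard _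
  have hG : Nat.card G = 2 ^ n * ((2 ^ n) ^ 2 - 1) := by
    have h1 := card_G D
    have hsq : 1 ≤ (2 ^ n) ^ 2 := Nat.one_le_pow _ _ (Nat.two_pow_pos n)
    zify [hsq] at h1 ⊢
    have hA : ((a D : ℕ) : ℤ) = 2 ^ n - 2 := by
      rw [hl] at ha
      have h' : ((2 + a D : ℕ) : ℤ) = ((2 ^ n : ℕ) : ℤ) := congrArg _ ha
      push_cast at h'
      linarith
    rw [h1, show ((k D : ℕ) : ℤ) = 2 ^ n + 1 by rw [hk]; push_cast; ring, show ((l D : ℕ) : ℤ) = 2 by
      rw [hl]; norm_num, hA]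
    ring
  rcases S2202.result heven hab with hcyc | hnor | ⟨F, hF1, hF2, A, hA1, hA2, hchar, hAodd, ⟨φ⟩⟩
  · exfalso
    obtain ⟨P, hP⟩ := (show IsPGroup 2 ↥(Subgroup.centralizer ({D.z} : Set G)) from fun g => ⟨1, by
      apply Subtype.ext
      rw [pow_one, pow_two, Subgroup.coe_mul]
      exact cent_sq D hl (Subgroup.mem_centralizer_singleton_iff.1 g.2)⟩).exists_le_sylow
    haveI := hcyc P
    haveI : IsCyclic ↥(Subgroup.centralizer ({D.z} : Set G)) := Subgroup.isCyclic_of_le hP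
    obtain ⟨g, hg⟩ := IsCyclic.exists_generator (α := ↥(Subgroup.centralizer ({D.z} : Set G)))
    have hdvd : Nat.card ↥(Subgroup.centralizer ({D.z} : Set G)) ≤ 2 := by
      rw [← orderOf_eq_card_of_forall_mem_zpowers hg]
      refine Nat.le_of_dvd (by norm_num) (orderOf_dvd_of_pow_eq_one ?_)
      apply Subtype.ext
      rw [pow_two, Subgroup.coe_mul]
      exact cent_sq D hl (Subgroup.mem_centralizer_singleton_iff.1 g.2)
    rw [card_cent_z, ha] at hdvd
    have : 2 ^ 2 ≤ 2 ^ n := Nat.pow_le_pow_right two_pos hn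
    omega
  · exfalso
    obtain ⟨P, hP⟩ := (show IsPGroup 2 ↥(Subgroup.zpowers D.z) from IsPGroup.of_card (n := 1) (by
      rw [Nat.card_zpowers, pow_one]; exact inv2_iff.1 D.hz)).exists_le_sylow
    haveI := hnor P
    obtain ⟨x, hx, hx1⟩ := D.M.bot_or_exists_ne_one.resolve_left D.hM1
    apply hx1
    refine no_invol_M D hx ?_
    have hP2 : x * x ∈ (P : Subgroup G) := by
      have hzP := hP (Subgroup.mem_zpowers D.z)
      have h1 := (P : Subgroup G).mul_mem ((hnor P).conj_mem _ hzP x) ((P : Subgroup G).inv_mem hzP)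
      have h2 := z_inv D (D.M.inv_mem hx)
      rw [inv_inv] at h2
      rwa [show x * D.z * x⁻¹ * D.z⁻¹ = x * (D.z * x⁻¹ * D.z⁻¹) by group, h2] at h1
    have hbot : (P : Subgroup G) ⊓ D.M = ⊥ := by
      obtain ⟨j, hj⟩ := IsPGroup.iff_card.1 P.2
      exact inf_bot_of_coprime (by rw [hj]; exact Nat.Coprime.pow_left _ (Nat.coprime_two_left.2 (k_odd D)))
    exact Subgroup.mem_bot.1 (hbot ▸ Subgroup.mem_inf.2 ⟨hP2, D.M.mul_mem hx hx⟩)
  · obtain ⟨e, he2, he⟩ := FiniteField.card F 2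
    have hcard : Nat.card G = 2 ^ (e : ℕ) * ((2 ^ (e : ℕ)) ^ 2 - 1) * Nat.card A := by
      rw [Nat.card_congr φ.toEquiv, Nat.card_prod, Linear.card_SL_two, he]
    have hodd : ∀ j : ℕ, 1 ≤ j → Odd ((2 ^ j) ^ 2 - 1) := by
      intro j hj
      rw [Nat.odd_iff]
      have : 2 ∣ (2 ^ j) ^ 2 := dvd_pow (dvd_pow_self 2 (by omega)) (by norm_num)
      have : 1 ≤ (2 ^ j) ^ 2 := Nat.one_le_pow _ _ (Nat.two_pow_pos j)
      omega
    have hen : (e : ℕ) = n := by
      apply le_antisymm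
      · refine (Nat.pow_dvd_pow_iff_le_right one_lt_two).1 ((Nat.Coprime.pow_left (e : ℕ)
          (Nat.coprime_two_left.2 (hodd n (by omega)))).dvd_of_dvd_mul_right ?_)
        rw [← hG, hcard, mul_assoc]; exact dvd_mul_right _ _
      · refine (Nat.pow_dvd_pow_iff_le_right one_lt_two).1 ((Nat.Coprime.pow_left n
          (Nat.coprime_two_left.2 ((hodd e e.pos).mul hAodd))).dvd_of_dvd_mul_right ?_)
        rw [← mul_assoc, ← hcard, hG]; exact dvd_mul_right _ _
    have hA : Nat.card A = 1 := by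
      rw [hG, hen] at hcard
      exact (Nat.eq_of_mul_eq_mul_left (Nat.mul_pos (Nat.two_pow_pos n) (hodd n (by omega)).pos)
        ((mul_one _).trans hcard)).symm
    haveI : Subsingleton A := (Nat.card_eq_one_iff_unique.1 hA).1
    haveI : Unique A := uniqueOfSubsingleton 1
    let ψ : G ≃* Matrix.SpecialLinearGroup (Fin 2) F := φ.trans MulEquiv.prodUnique
    have hcen : Subgroup.center (Matrix.SpecialLinearGroup (Fin 2) F) = ⊥ := by
      rw [← Subgroup.card_eq_one, Linear.card_center_SL, Fintype.card_fin, he]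
      have h2 : 2 ^ (e : ℕ) % 2 = 0 := Nat.mod_eq_zero_of_dvd (dvd_pow_self 2 e.pos.ne') |>.trans rfl
      have := Nat.two_pow_pos (e : ℕ)
      exact Nat.coprime_two_left.2 (Nat.odd_iff.2 (by omega))
    refine ⟨F, hF1, hF2, n, by omega, by rw [he, hen], ?_, hk,
      ⟨ψ.trans ((QuotientGroup.quotientBot).symm.trans (QuotientGroup.quotientMulEquivOfEq hcen.symm))⟩⟩
    haveI : IsZGroup ↥D.M := ⟨fun r hr P => by
      haveI := Fact.mk hr
      obtain ⟨j, hj⟩ := IsPGroup.iff_card.1 P.2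
      by_cases hr2 : r = 2
      · have hd : Nat.card P ∣ Nat.card D.M := Subgroup.card_subgroup_dvd_card _
        rw [hj, hr2] at hd
        have hj0 : j = 0 := by
          by_contra h0
          exact Nat.not_even_iff_odd.2 ((k_odd D).of_dvd_nat hd) (Nat.even_pow.2 ⟨even_two, h0⟩)
        haveI : Subsingleton (P : Subgroup D.M) :=
          (Nat.card_eq_one_iff_unique.1 (show Nat.card P = 1 by rw [hj, hj0, pow_zero])).1
        exact isCyclic_of_subsingleton
      · set f : ↥D.M →* Matrix.SpecialLinearGroup (Fin 2) F := ψ.toMonoidHom.comp D.M.subtype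
        have hf : Function.Injective f := ψ.injective.comp Subtype.val_injective
        haveI := Cfsg.Agent.H27.ProjLine.isCyclic_sl_two_subgroup 2 r hr2 hr2
          ((P : Subgroup D.M).map f) (P.2.map f)
        exact isCyclic_of_surjective ((P : Subgroup D.M).equivMapOfInjective f hf).symm.toMonoidHom
          ((P : Subgroup D.M).equivMapOfInjective f hf).symm.surjective⟩
    letI : CommGroup ↥D.M :=
      { (inferInstance : Group ↥D.M) with mul_comm := fun x y => Subtype.ext (M_comm D x.2 y.2) }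
    haveI : Group.IsNilpotent ↥D.M := CommGroup.isNilpotent
    infer_instance

/-- The solvable case. -/
theorem two_small {d : ℕ} (hl : l D = 2) (hd : 1 ≤ d) (ha : l D + a D = 2 ^ (d + 1)) (hk : k D = 2 ^ d + 1) :
    ∃ (d : ℕ) (E : Subgroup G), 1 ≤ d ∧ E.Normal ∧ Cfsg.IsElementaryAbelian 2 E ∧ Nat.card E = 2 ^ (2 * d) ∧
      E ⊓ Subgroup.normalizer (D.M : Set G) = ⊥ ∧ E ⊔ Subgroup.normalizer (D.M : Set G) = ⊤ ∧
      Nonempty (↥(Subgroup.normalizer (D.M : Set G)) ≃* DihedralGroup (2 ^ d + 1)) := by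
  haveI : Fact (Nat.Prime 2) := ⟨Nat.prime_two⟩
  have hG : Nat.card G = 2 ^ (2 * d + 1) * k D := by
    have h1 := card_G D
    rw [hl] at ha h1
    rw [hk] at h1 ⊢
    have hA : ((a D : ℕ) : ℤ) = 2 * 2 ^ d - 2 := by
      have h' : ((2 + a D : ℕ) : ℤ) = ((2 ^ (d + 1) : ℕ) : ℤ) := congrArg _ ha
      push_cast at h'
      rw [pow_succ'] at h'
      linarith
    zify at h1 ⊢
    rw [h1, hA, pow_succ, mul_comm 2 d, pow_mul]
    ring
  have hcop : (2 ^ (2 * d + 1)).Coprime (k D) := Nat.Coprime.pow_left _ (Nat.coprime_two_left.2 (k_odd D))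
  obtain ⟨S, hS⟩ := Sylow.exists_subgroup_card_pow_prime (G := G) 2 (n := 2 * d + 1) (hG ▸ dvd_mul_right _ _)
  have hSM : ∀ g : G, ∃ s ∈ S, ∃ m ∈ D.M, g = s * m := by
    have hbot : S ⊓ D.M = ⊥ := inf_bot_of_coprime (by rw [hS]; exact hcop)
    let f : S × D.M → G := fun p => (p.1 : G) * p.2
    have hf : Function.Injective f := Subgroup.mul_injective_of_disjoint (disjoint_iff.2 hbot)
    intro g
    obtain ⟨p, rfl⟩ := ((Nat.bijective_iff_injective_and_card f).2 ⟨hf, by
      rw [Nat.card_prod, hS, hG]⟩).2 g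
    exact ⟨_, p.1.2, _, p.2.2, rfl⟩
  have hMnil : Group.IsNilpotent ↥D.M :=
    letI : CommGroup ↥D.M :=
      { (inferInstance : Group ↥D.M) with mul_comm := fun x y => Subtype.ext (M_comm D x.2 y.2) }
    CommGroup.isNilpotent
  haveI : Group.IsSolvable G := (S0563.result S D.M (IsPGroup.of_card hS).isNilpotent hMnil
    (by rw [hS]; exact hcop) hSM).1
  haveI : Nontrivial G := ⟨⟨D.z, 1, D.hz.2⟩⟩
  obtain ⟨R, -, hRn, hR1, hRmin⟩ := H24.exists_minimal_normal (⊤ : Subgroup G) inferInstance top_ne_bot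
  haveI := hRn
  obtain ⟨hRab, p, hp, hRp⟩ := H24.minimal_normal_elementary R hR1 hRmin
  haveI := Fact.mk hp
  have hRpg : IsPGroup p R := fun g => ⟨1, Subtype.ext (by rw [pow_one, SubgroupClass.coe_pow]; exact hRp _ g.2)⟩
  obtain ⟨e, he⟩ := IsPGroup.iff_card.1 hRpg
  have hRdvd : Nat.card R ∣ 2 ^ (2 * d + 1) * k D := hG ▸ R.card_subgroup_dvd_card
  have hp2 : p = 2 := by
    by_contra hne
    have hRcop : (Nat.card R).Coprime (2 ^ (2 * d + 1)) := by
      rw [he]
      exact (Nat.Coprime.pow _ _ ((Nat.coprime_primes hp Nat.prime_two).2 hne))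
    have hRM : Nat.card ↥(R ⊔ D.M) ∣ k D := by
      have h1 : R ⊔ D.M = (D.M.map (QuotientGroup.mk' R)).comap (QuotientGroup.mk' R) := by
        rw [Subgroup.comap_map_eq, QuotientGroup.ker_mk', sup_comm]
      have h2 : Nat.card ↥(R ⊔ D.M) = Nat.card R * Nat.card (D.M.map (QuotientGroup.mk' R)) := by
        rw [h1, PGroups.card_comap_mk']
      refine Nat.Coprime.dvd_of_dvd_mul_left (m := 2 ^ (2 * d + 1)) ?_
        (by rw [← hG]; exact Subgroup.card_subgroup_dvd_card (R ⊔ D.M))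
      rw [h2]
      refine hRcop.mul ?_
      exact Nat.Coprime.coprime_dvd_left (Subgroup.card_map_dvd _ _) hcop.symm
    have hle : R ≤ D.M := by
      have : R ⊔ D.M = D.M := (Subgroup.eq_of_le_of_card_ge le_sup_right
        (Nat.le_of_dvd Nat.card_pos hRM)).symm
      exact le_sup_left.trans this.le
    obtain ⟨r, hr, hr1⟩ := R.bot_or_exists_ne_one.resolve_left hR1
    exact N_ne_top D (eq_top_iff.2 fun g _ => D.hTI g r (hle hr) hr1 (hle (hRn.conj_mem r hr g)))
  subst hp2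
  have hRM : R ⊓ D.M = ⊥ :=
    inf_bot_of_coprime (by rw [he]; exact Nat.Coprime.pow_left _ (Nat.coprime_two_left.2 (k_odd D)))
  have he1 : 1 ≤ e := by
    by_contra h0
    rw [show e = 0 by omega, pow_zero] at he
    exact hR1 (Subgroup.card_eq_one.1 he)
  have hkd : k D ∣ 2 ^ e - 1 := by
    let X := {r : R // r ≠ 1}
    letI : MulAction ↥D.M X :=
      { smul := fun c r => ⟨⟨(c : G) * (r.1 : G) * (c : G)⁻¹, hRn.conj_mem _ r.1.2 _⟩, fun h => r.2 (by
          have := congrArg Subtype.val h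
          exact Subtype.ext (conj_eq_one_iff.1 this))⟩
        one_smul := fun r => by apply Subtype.ext; apply Subtype.ext; show (1 : G) * _ * (1 : G)⁻¹ = _; simp
        mul_smul := fun b c r => by
          apply Subtype.ext; apply Subtype.ext
          show ((b : G) * c) * _ * ((b : G) * c)⁻¹ = (b : G) * ((c : G) * _ * (c : G)⁻¹) * (b : G)⁻¹
          group }
    have hX : Nat.card X = 2 ^ e - 1 := by
      haveI := Fintype.ofFinite R
      classical
      rw [Nat.card_eq_fintype_card, Fintype.card_subtype_compl, Fintype.card_subtype_eq,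
        ← Nat.card_eq_fintype_card, he]
    rw [← hX]
    refine card_dvd_of_free fun c r h => ?_
    by_contra hc1
    have e1 : (c : G) * (r.1 : G) * (c : G)⁻¹ = r.1 := congrArg (fun b : X => ((b.1 : R) : G)) h
    have h2 := (centralizer_eq D c.2 (fun h' => hc1 (Subtype.ext h'))).1
      (mul_inv_eq_iff_eq_mul.1 e1).symm
    have : (r.1 : G) ∈ R ⊓ D.M := ⟨r.1.2, h2⟩
    rw [hRM, Subgroup.mem_bot] at this
    exact r.2 (Subtype.ext this)
  have hele : e ≤ 2 * d + 1 := by
    rw [he] at hRdvd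
    exact (Nat.pow_dvd_pow_iff_le_right one_lt_two).1
      ((Nat.Coprime.pow_left e (Nat.coprime_two_left.2 (k_odd D))).dvd_of_dvd_mul_right hRdvd)
  have hede : e = 2 * d := by
    have hd' : d < e := by
      by_contra h'
      push Not at h'
      have h1 : 2 ^ e ≤ 2 ^ d := Nat.pow_le_pow_right two_pos h'
      have h2 : 2 ^ 1 ≤ 2 ^ e := Nat.pow_le_pow_right two_pos he1
      have := Nat.le_of_dvd (by omega) hkd
      omega
    have hsum : 2 ^ e - 1 + (2 ^ (e - d) + 1) = 2 ^ (e - d) * k D := by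
      rw [hk, mul_add, mul_one, ← pow_add, show e - d + d = e by omega]
      have := Nat.two_pow_pos e
      omega
    have hd2 : k D ∣ 2 ^ (e - d) + 1 :=
      (Nat.dvd_add_right hkd).1 (hsum ▸ dvd_mul_left _ _)
    rcases Nat.lt_trichotomy (e - d) d with h | h | h
    · have h1 : 2 ^ (e - d) < 2 ^ d := Nat.pow_lt_pow_right one_lt_two h
      have := Nat.le_of_dvd (Nat.succ_pos _) hd2
      omega
    · omega
    · have he' : e - d = d + 1 := by omega
      rw [he', pow_succ] at hd2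
      have h1 : 2 ^ 1 ≤ 2 ^ d := Nat.pow_le_pow_right two_pos hd
      obtain ⟨c, hc⟩ := hd2
      rw [hk] at hc
      rcases c with _ | _ | c
      · omega
      · omega
      · nlinarith
  have hRN : R ⊓ N D = ⊥ := by
    rw [Subgroup.eq_bot_iff_forall]
    rintro n ⟨hnR, hnN⟩
    by_contra hn1
    obtain ⟨m, hm, rfl⟩ := invol_N D hnN ⟨by rw [← pow_two]; exact hRp n hnR, hn1⟩
    obtain ⟨x, hx, hx1⟩ := D.M.bot_or_exists_ne_one.resolve_left D.hM1
    refine hx1 (no_invol_M D hx ?_)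
    have h1 := R.mul_mem (hRn.conj_mem _ hnR x) (R.inv_mem hnR)
    have h2 := z_inv D (D.M.inv_mem hx)
    rw [inv_inv] at h2
    rw [show x * (m * D.z) * x⁻¹ * (m * D.z)⁻¹ = x * m * (D.z * x⁻¹ * D.z⁻¹) * m⁻¹ by group, h2] at h1
    have h3 : x * m * x * m⁻¹ = x * x := by
      rw [mul_assoc x m x, ← M_comm D hx hm, ← mul_assoc, mul_inv_cancel_right]
    rw [h3] at h1
    have : x * x ∈ R ⊓ D.M := ⟨h1, D.M.mul_mem hx hx⟩
    rwa [hRM, Subgroup.mem_bot] at this
  have hNcard : Nat.card ↥(N D) = k D * 2 := by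
    have := card_N_inf D ⊤ le_top
    rwa [top_inf_eq, inf_top_eq, hl] at this
  refine ⟨d, R, hd, hRn, ⟨hRab, hRp⟩, by rw [he, hede], hRN, ?_, ?_⟩
  · refine (Subgroup.isComplement'_of_card_mul_and_disjoint ?_ (disjoint_iff.2 hRN)).sup_eq_top
    rw [he, hede, hNcard, hG, pow_succ]
    ring
  · haveI : IsCyclic ↥D.M := by
      set Y := R ⊔ D.M
      have hc : Subgroup.IsComplement' (R.subgroupOf Y) (D.M.subgroupOf Y) := by
        refine Subgroup.isComplement'_of_disjoint_and_mul_eq_univ ?_ ?_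
        · rw [disjoint_iff, Subgroup.eq_bot_iff_forall]
          rintro y ⟨h1, h2⟩
          have : (y : G) ∈ R ⊓ D.M := ⟨h1, h2⟩
          rw [hRM, Subgroup.mem_bot] at this
          exact Subtype.ext this
        · refine Set.eq_univ_of_forall fun y => ?_
          have hy : (y : G) ∈ (↑(R ⊔ D.M) : Set G) := y.2
          rw [Subgroup.normal_mul] at hy
          obtain ⟨r, hr, m, hm, e1⟩ := Set.mem_mul.1 hy
          exact Set.mem_mul.2 ⟨⟨r, Subgroup.mem_sup_left hr⟩, hr, ⟨m, Subgroup.mem_sup_right hm⟩, hm,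
            Subtype.ext e1⟩
      have hF := Frobenius.of_fixedPointFree hc
        (fun h => hR1 (by
          have := congrArg (Subgroup.map Y.subtype) h
          rwa [Subgroup.subgroupOf_map_subtype, inf_eq_left.2 le_sup_left, Subgroup.map_bot] at this))
        (fun h => D.hM1 (by
          have := congrArg (Subgroup.map Y.subtype) h
          rwa [Subgroup.subgroupOf_map_subtype, inf_eq_left.2 le_sup_right, Subgroup.map_bot] at this))
        (by
          intro x hx hx1 r hr hcom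
          have h2 := (centralizer_eq D hx (fun h' => hx1 (Subtype.ext h'))).1
            (congrArg Subtype.val hcom).symm
          have : (r : G) ∈ R ⊓ D.M := ⟨hr, h2⟩
          rw [hRM, Subgroup.mem_bot] at this
          exact Subtype.ext this)
      let eM := Subgroup.subgroupOfEquivOfLe (show D.M ≤ Y from le_sup_right)
      haveI := hMnil
      haveI : Group.IsNilpotent ↥(D.M.subgroupOf Y) := Group.nilpotent_of_mulEquiv eM.symm
      haveI := Frobenius.isCyclic_of_nilpotent_odd hF (by rw [Nat.card_congr eM.toEquiv]; exact k_odd D)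
      exact isCyclic_of_surjective eM.toMonoidHom eM.surjective
    obtain ⟨c, hc⟩ := IsCyclic.exists_generator (α := ↥D.M)
    have hco : orderOf (c : G) = 2 ^ d + 1 := by
      rw [Subgroup.orderOf_coe, orderOf_eq_card_of_forall_mem_zpowers hc]; exact hk
    haveI : NeZero (2 ^ d + 1) := ⟨Nat.succ_ne_zero _⟩
    refine PGroups.nonempty_mulEquiv_dihedral (c := (⟨c, M_le_N D c.2⟩ : ↥(N D)))
      (y := ⟨D.z, D.hzN⟩) (by rw [← hco, ← Subgroup.orderOf_coe]) ?_ ?_ ?_ (by rw [hNcard, hk, mul_comm])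
    · intro hmem
      obtain ⟨i, hi⟩ := Subgroup.mem_zpowers_iff.1 hmem
      have he' : (c : G) ^ i = D.z := by simpa using congrArg Subtype.val hi
      exact D.hz.2 (no_invol_M D (he' ▸ D.M.zpow_mem c.2 i) D.hz.1)
    · apply Subtype.ext; rw [pow_two]; exact D.hz.1
    · apply Subtype.ext; exact z_inv D c.2

/-- `C_N(z) = ⟨z⟩` gives one of the last two outcomes. -/
theorem case_two (hl : l D = 2) :
    (∃ (F : Type) (_ : Field F) (_ : Fintype F) (e : ℕ), 1 < e ∧ Fintype.card F = 2 ^ e ∧ IsCyclic ↥D.M ∧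
        Nat.card D.M = 2 ^ e + 1 ∧ Nonempty (G ≃* Matrix.ProjectiveSpecialLinearGroup (Fin 2) F)) ∨
    (∃ (d : ℕ) (E : Subgroup G), 1 ≤ d ∧ E.Normal ∧ Cfsg.IsElementaryAbelian 2 E ∧ Nat.card E = 2 ^ (2 * d) ∧
      E ⊓ Subgroup.normalizer (D.M : Set G) = ⊥ ∧ E ⊔ Subgroup.normalizer (D.M : Set G) = ⊤ ∧
      Nonempty (↥(Subgroup.normalizer (D.M : Set G)) ≃* DihedralGroup (2 ^ d + 1))) := by
  obtain ⟨n, hn, ha⟩ := exists_n D hl
  obtain ⟨d, rfl⟩ : ∃ d, n = d + 1 := ⟨n - 1, by omega⟩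
  have hle := k_le D
  have hlk := l_lt_k D
  rw [ha] at hle
  have hdvd : 2 ^ d ∣ k D - 1 := by
    have h1 : 2 ^ (d + 1) ∣ Nat.card G := ⟨Nat.card {g : G // IsConj D.z g}, by
      rw [← class_card D, ha, mul_comm]⟩
    rw [card_G, hl] at h1
    have hA : a D = 2 * 2 ^ d - 2 := by rw [hl, pow_succ'] at ha; omega
    have hp : 1 ≤ 2 ^ d := Nat.two_pow_pos d
    have e : k D * 2 + k D * a D * k D = 2 * (k D * (1 + k D * (2 ^ d - 1))) := by
      rw [hA, show 2 * 2 ^ d - 2 = 2 * (2 ^ d - 1) by omega]; ring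
    rw [e, pow_succ'] at h1
    have h2 := (Nat.Coprime.pow_left d (Nat.coprime_two_left.2 (k_odd D))).dvd_of_dvd_mul_left
      (Nat.dvd_of_mul_dvd_mul_left two_pos h1)
    have h3 : 1 + k D * (2 ^ d - 1) + (k D - 1) = k D * 2 ^ d := by
      have hz : k D * 2 ^ d = k D * (2 ^ d - 1) + k D := by
        conv_lhs => rw [show 2 ^ d = 2 ^ d - 1 + 1 by omega, mul_add, mul_one]
      omega
    exact (Nat.dvd_add_right h2).1 (h3 ▸ dvd_mul_left _ _)
  obtain ⟨j, hj⟩ := hdvd
  rw [pow_succ'] at hle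
  have hj0 : j ≠ 0 := by rintro rfl; rw [mul_zero] at hj; omega
  have hj2 : j ≤ 2 := by
    have h' : 2 ^ d * j ≤ 2 ^ d * 2 := by omega
    exact Nat.le_of_mul_le_mul_left h' (Nat.two_pow_pos d)
  interval_cases j
  · omega
  · refine Or.inr (two_small D hl ?_ ha (by omega))
    by_contra h0
    rw [show d = 0 by omega] at hj
    omega
  · exact Or.inl (two_big D hl (by omega) ha (by rw [pow_succ']; omega))

end Cfsg.Agent.H46.TIOdd
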