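import Cfsg.Agent.H46.TIOdd.Basic

/-!
# A TI subgroup inverted by an involution: `G = N ∪ M C(z) M`

Every element outside `N` has exactly one expression `m h m'` with `h` an involution centralising `z`
outside `N`. This gives the order of `G` and bounds `|M|` by `|C(z)| + 1`.
-/

set_option autoImplicit false

namespace Cfsg.Agent.H46.TIOdd

open scoped Classical

universe u

variable {G : Type u} [Group G] [Finite G] (D : Setup G)

/-- The elements of `C(z)` outside `N`. -/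
abbrev Out : Type u := {h : G // h * D.z = D.z * h ∧ h ∉ N D}

/-- Their number. -/
noncomputable abbrev a : ℕ := Nat.card (Out D)

theorem a_pos : 0 < a D :=
  haveI : Nonempty (Out D) := ⟨⟨w D, w_comm D, w_notMem D⟩⟩
  Nat.card_pos

theorem out_invol (h : Out D) : Inv2 (h : G) := outside_invol D h.2.1 h.2.2

theorem exists_root {m : G} (hm : m ∈ D.M) : ∃ b ∈ D.M, b * b = m := by
  obtain ⟨j, hj⟩ := k_odd D
  refine ⟨m ^ (j + 1), D.M.pow_mem hm _, ?_⟩
  have h1 : m ^ k D = 1 := orderOf_dvd_iff_pow_eq_one.1 (Subgroup.orderOf_dvd_natCard _ hm)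
  rw [← pow_add, show j + 1 + (j + 1) = k D + 1 by show _ = Nat.card D.M + 1; omega, pow_succ, h1,
    one_mul]

theorem mul_z_eq_conj {b : G} (hb : b ∈ D.M) : b * b * D.z = b * D.z * b⁻¹ := by
  have := z_inv D hb
  rw [mul_inv_eq_iff_eq_mul] at this
  have e : D.z * b⁻¹ = b * D.z := by
    have h2 := z_inv D (D.M.inv_mem hb)
    rw [mul_inv_eq_iff_eq_mul, inv_inv] at h2
    exact h2
  calc b * b * D.z = b * (b * D.z) := mul_assoc _ _ _
    _ = b * (D.z * b⁻¹) := by rw [e]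
    _ = b * D.z * b⁻¹ := (mul_assoc _ _ _).symm

/-- A point stabiliser in `N` contains an involution. -/
theorem exists_pair {g : G} (hg : g ∉ N D) :
    ∃ m ∈ D.M, ∃ h : Out D, ∃ m' ∈ D.M, g = m * h * m' := by
  obtain ⟨u1, hu1, hm1, -⟩ := exists_u D hg
  have hgz : g * D.z ∉ N D := fun h => hg (by simpa using (N D).mul_mem h ((N D).inv_mem D.hzN))
  obtain ⟨u2, hu2, hm2, -⟩ := exists_u D hgz
  -- `y = u1 * u2` fixes both points and maps to `z`
  have ey : u1 * u2 = (g⁻¹ * u1)⁻¹ * (D.z * ((g * D.z)⁻¹ * u2) * D.z⁻¹) * D.z := by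
    rw [mul_inv_rev, mul_inv_rev, inv_inv, hu1.inv_eq]; group
  set m₀ := (g⁻¹ * u1)⁻¹ * (D.z * ((g * D.z)⁻¹ * u2) * D.z⁻¹) with hm₀
  have hm₀M : m₀ ∈ D.M := D.M.mul_mem (D.M.inv_mem hm1) (conj_mem_M D D.hzN hm2)
  have hyi : Inv2 (u1 * u2) := by rw [ey]; exact mul_z_invol D hm₀M
  have ey' : g⁻¹ * (u1 * u2) * g = (g⁻¹ * u1) * ((g * D.z)⁻¹ * u2)⁻¹ * D.z⁻¹ := by
    rw [mul_inv_rev, inv_inv, hu2.inv_eq]; group
  have hy'N : g⁻¹ * (u1 * u2) * g ∈ N D := by
    rw [ey']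
    exact (N D).mul_mem (M_le_N D (D.M.mul_mem hm1 (D.M.inv_mem hm2))) ((N D).inv_mem D.hzN)
  have hy'i : Inv2 (g⁻¹ * (u1 * u2) * g) := by simpa using hyi.conj g⁻¹
  obtain ⟨m₂, hm₂, he₂⟩ := invol_N D hy'N hy'i
  obtain ⟨b, hb, rfl⟩ := exists_root D hm₂
  obtain ⟨c, hc, hcc⟩ := exists_root D hm₀M
  rw [mul_z_eq_conj D hb] at he₂
  have ey2 : u1 * u2 = c * D.z * c⁻¹ := by rw [ey, ← hcc, mul_z_eq_conj D hc]
  rw [ey2] at he₂
  refine ⟨c, hc, ⟨c⁻¹ * g * b, ?_, fun h => hg ?_⟩, b⁻¹, D.M.inv_mem hb, by group⟩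
  · calc c⁻¹ * g * b * D.z = c⁻¹ * g * (b * D.z * b⁻¹) * b := by group
      _ = c⁻¹ * g * (g⁻¹ * (c * D.z * c⁻¹) * g) * b := by rw [he₂]
      _ = D.z * (c⁻¹ * g * b) := by group
  · have := (N D).mul_mem ((N D).mul_mem (M_le_N D hc) h) ((N D).inv_mem (M_le_N D hb))
    simpa [mul_assoc] using this

theorem pair_unique {m m' n n' : G} {h h' : Out D} (hm : m ∈ D.M) (hm' : m' ∈ D.M) (hn : n ∈ D.M)
    (hn' : n' ∈ D.M) (e : m * h * m' = n * h' * n') : m = n ∧ h = h' ∧ m' = n' := by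
  set x := n⁻¹ * m with hx
  have hxM : x ∈ D.M := D.M.mul_mem (D.M.inv_mem hn) hm
  have e1 : (x * h * x⁻¹) * (x * m') = (h' : G) * n' := by
    rw [hx, show n⁻¹ * m * (h : G) * (n⁻¹ * m)⁻¹ * (n⁻¹ * m * m') = n⁻¹ * (m * h * m') by group, e]
    group
  have hxh : x * (h : G) * x⁻¹ ∉ N D := by
    intro hc
    apply h.2.2
    have := (N D).mul_mem ((N D).mul_mem ((N D).inv_mem (M_le_N D hxM)) hc) (M_le_N D hxM)
    simpa [mul_assoc] using this
  obtain ⟨eh, em⟩ := injOn_prod D ((out_invol D h).conj x) (out_invol D h') hxh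
    (D.M.mul_mem hxM hm') hn' e1
  have hh'z : D.z * (h' : G) * D.z⁻¹ = h' := mul_inv_eq_iff_eq_mul.2 h'.2.1.symm
  have hhz : D.z * (h : G) * D.z⁻¹ = h := mul_inv_eq_iff_eq_mul.2 h.2.1.symm
  have e2 : x⁻¹ * (h : G) * x = h' := by
    rw [← eh] at hh'z
    rw [show D.z * (x * h * x⁻¹) * D.z⁻¹ =
      (D.z * x * D.z⁻¹) * (D.z * h * D.z⁻¹) * (D.z * x * D.z⁻¹)⁻¹ by group, z_inv D hxM, hhz, inv_inv]
      at hh'z
    rw [hh'z, eh]
  have hx2 : x * x = 1 := by
    by_contra hne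
    refine h.2.2 (centralizer_le D (D.M.mul_mem hxM hxM) hne ?_)
    calc (h : G) * (x * x) = x * (x⁻¹ * h * x) * x := by group
      _ = x * (x * h * x⁻¹) * x := by rw [e2, eh]
      _ = x * x * h := by group
  have hx1 : x = 1 := no_invol_M D hxM hx2
  rw [hx1] at eh em
  refine ⟨(inv_mul_eq_one.1 hx1).symm, Subtype.ext (by simpa using eh), by simpa using em⟩

theorem card_G : Nat.card G = k D * l D + k D * a D * k D := by
  have h1 := card_split D ⊤
  rw [Subgroup.card_top, card_N_inf D ⊤ le_top, inf_top_eq] at h1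
  rw [h1, add_comm, show k D * a D * k D = Nat.card ((D.M × Out D) × D.M) by rw [Nat.card_prod, Nat.card_prod]]
  congr 1
  refine (Nat.card_congr (Equiv.ofBijective
    (fun p : (D.M × Out D) × D.M => (⟨(p.1.1 : G) * p.1.2 * p.2, Subgroup.mem_top _, fun h => p.1.2.2.2 (by
      have := (N D).mul_mem ((N D).mul_mem ((N D).inv_mem (M_le_N D p.1.1.2)) h)
        ((N D).inv_mem (M_le_N D p.2.2))
      simpa [mul_assoc] using this)⟩ : {g : G // g ∈ (⊤ : Subgroup G) ∧ g ∉ N D})) ⟨?_, ?_⟩)).symm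
  · intro p q h
    obtain ⟨e1, e2, e3⟩ := pair_unique D p.1.1.2 p.2.2 q.1.1.2 q.2.2 (congrArg Subtype.val h)
    exact Prod.ext (Prod.ext (Subtype.ext e1) e2) (Subtype.ext e3)
  · rintro ⟨g, -, hg⟩
    obtain ⟨m, hm, h, m', hm', rfl⟩ := exists_pair D hg
    exact ⟨((⟨m, hm⟩, h), ⟨m', hm'⟩), rfl⟩

theorem card_invol : Nat.card {g : G // Inv2 g} = k D * (a D + 1) := by
  have h0 : Nat.card {g : G // Inv2 g} = Nat.card {w : G // Inv2 w ∧ w ∈ (⊤ : Subgroup G)} :=
    Nat.card_congr (Equiv.subtypeEquivRight fun g => by simp)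
  rw [h0, card_inv_inf D ⊤ le_top, inf_top_eq, mul_add, mul_one]
  congr 1
  set J := {w : G // (Inv2 w ∧ w ∈ (⊤ : Subgroup G)) ∧ w ∉ N D}
  rw [← Nat.card_prod]
  refine (Nat.card_congr (Equiv.ofBijective
    (fun p : D.M × Out D => (⟨(p.1 : G) * p.2 * (p.1 : G)⁻¹,
      ⟨(out_invol D p.2).conj _, Subgroup.mem_top _⟩, fun h => p.2.2.2 (by
        have := (N D).mul_mem ((N D).mul_mem ((N D).inv_mem (M_le_N D p.1.2)) h) (M_le_N D p.1.2)
        simpa [mul_assoc] using this)⟩ : J)) ⟨?_, ?_⟩)).symm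
  · intro p q h
    obtain ⟨e1, e2, -⟩ := pair_unique D p.1.2 (D.M.inv_mem p.1.2) q.1.2 (D.M.inv_mem q.1.2)
      (congrArg Subtype.val h)
    exact Prod.ext (Subtype.ext e1) e2
  · rintro ⟨v, ⟨hv, -⟩, hvN⟩
    obtain ⟨m, hm, h, m', hm', rfl⟩ := exists_pair D hvN
    refine ⟨(⟨m, hm⟩, h), Subtype.ext ?_⟩
    show m * h * m⁻¹ = m * h * m'
    have hmh : m * (h : G) * m⁻¹ ∉ N D := by
      intro h'
      apply h.2.2
      have := (N D).mul_mem ((N D).mul_mem ((N D).inv_mem (M_le_N D hm)) h') (M_le_N D hm)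
      simpa [mul_assoc] using this
    refine (coset_unique D ((out_invol D h).conj m) hv ?_).resolve_right hmh
    have : (m * (h : G) * m⁻¹)⁻¹ * (m * (h : G) * m') = m * m' := by group
    rw [this]
    exact D.M.mul_mem hm hm'

theorem card_cent_z : Nat.card ↥(Subgroup.centralizer ({D.z} : Set G)) = l D + a D := by
  have h1 := card_split D (Subgroup.centralizer ({D.z} : Set G))
  rw [h1, add_comm]
  congr 1
  · rw [inf_comm]
  · exact Nat.card_congr (Equiv.subtypeEquivRight fun g => by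
      rw [Subgroup.mem_centralizer_singleton_iff])

theorem class_card :
    Nat.card {g : G // IsConj D.z g} * (l D + a D) = Nat.card G := by
  rw [← card_cent_z]
  set H := Subgroup.centralizer ({D.z} : Set G)
  rw [← H.index_mul_card]
  congr 1
  rw [H.index_eq_card]
  refine (Nat.card_congr (Equiv.ofBijective
    (fun q : G ⧸ H => (⟨q.out * D.z * q.out⁻¹, isConj_iff.2 ⟨_, rfl⟩⟩ : {g : G // IsConj D.z g}))
    ⟨?_, ?_⟩)).symm
  · intro q r hqr
    have e : q.out * D.z * q.out⁻¹ = r.out * D.z * r.out⁻¹ := congrArg Subtype.val hqr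
    rw [← q.out_eq', ← r.out_eq', QuotientGroup.eq, Subgroup.mem_centralizer_singleton_iff]
    calc q.out⁻¹ * r.out * D.z = q.out⁻¹ * (r.out * D.z * r.out⁻¹) * r.out := by group
      _ = D.z * (q.out⁻¹ * r.out) := by rw [← e]; group
  · rintro ⟨v, hv⟩
    obtain ⟨g, rfl⟩ := isConj_iff.1 hv
    refine ⟨(g : G ⧸ H), Subtype.ext ?_⟩
    obtain ⟨c, hc⟩ := QuotientGroup.mk_out_eq_mul H g
    show (g : G ⧸ H).out * D.z * ((g : G ⧸ H).out)⁻¹ = g * D.z * g⁻¹
    rw [hc]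
    have hcc := Subgroup.mem_centralizer_singleton_iff.1 c.2
    calc g * (c : G) * D.z * (g * (c : G))⁻¹ = g * ((c : G) * D.z) * (c : G)⁻¹ * g⁻¹ := by group
      _ = g * D.z * g⁻¹ := by rw [hcc]; group

theorem class_subset {g : G} (h : IsConj D.z g) : Inv2 g := by
  obtain ⟨x, rfl⟩ := isConj_iff.1 h
  exact D.hz.conj x

theorem k_le : k D ≤ l D + a D + 1 := by
  have h1 : Nat.card {g : G // IsConj D.z g} ≤ Nat.card {g : G // Inv2 g} :=
    Nat.card_le_card_of_injective (fun g => ⟨g.1, class_subset D g.2⟩)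
      fun p q h => Subtype.ext (congrArg (fun r : {g : G // Inv2 g} => r.1) h)
  have h2 := Nat.mul_le_mul_right (l D + a D) h1
  rw [class_card, card_invol, card_G] at h2
  have hk : 0 < k D := Nat.card_pos
  have h3 : k D * (l D + a D * k D) ≤ k D * ((a D + 1) * (l D + a D)) := by linarith
  have h4 := Nat.le_of_mul_le_mul_left h3 hk
  have h5 : a D * k D ≤ a D * (l D + a D + 1) := by linarith
  exact Nat.le_of_mul_le_mul_left h5 (a_pos D)

theorem all_conj (h : k D = l D + a D + 1) {g : G} (hg : Inv2 g) : IsConj D.z g := by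
  have h1 : Nat.card {g : G // IsConj D.z g} = Nat.card {g : G // Inv2 g} := by
    refine Nat.eq_of_mul_eq_mul_right (show 0 < l D + a D by have := a_pos D; omega) ?_
    rw [class_card, card_invol, card_G, h]
    ring
  let f : {g : G // IsConj D.z g} → {g : G // Inv2 g} := fun g => ⟨g.1, class_subset D g.2⟩
  have hf : Function.Injective f := fun p q h =>
    Subtype.ext (congrArg (fun r : {g : G // Inv2 g} => r.1) h)
  obtain ⟨v, hv⟩ := ((Nat.bijective_iff_injective_and_card f).2 ⟨hf, h1⟩).2 ⟨g, hg⟩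
  have h2 := v.2
  rwa [show v.1 = g from congrArg Subtype.val hv] at h2

end Cfsg.Agent.H46.TIOdd
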