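import Cfsg.Agent.H46.TIOdd.Points
import Cfsg.Agent.H28.ZassPSL
import Cfsg.Agent.H33.SharplyThreeField
import Cfsg.Agent.S0738
import Cfsg.Prelude.Def_Transfer

/-!
# A TI subgroup inverted by an involution: the case `|C_N(z)| > 2`

Then `G` is a Zassenhaus group on the cosets of `N`, with `C` as a two-point stabiliser and `M` as
kernel, and `|M| - 1` is `|C|` or `2 |C|`: the group is `PGL(2, q)` or `PSL(2, q)`.
-/

set_option autoImplicit false

namespace Cfsg.Agent.H46.TIOdd

universe u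

variable {G : Type u} [Group G] [Finite G] (D : Setup G)

theorem out_eq (hl : l D ≠ 2) (h : Out D) : ∃ c ∈ C D, (h : G) = w D * c := by
  rcases cent_z_cases D with hs | hb
  · exfalso
    have h2 : l D ≤ 2 := by
      let f : ↥(C D) → Bool := fun c => by classical exact decide ((c : G) = 1)
      refine (Nat.card_le_card_of_injective f fun x y hxy => Subtype.ext ?_).trans
        (by rw [Nat.card_eq_fintype_card, Fintype.card_bool])
      rcases hs x x.2 with hx | hx <;> rcases hs y y.2 with hy | hy <;>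
        simp [f, hx, hy, D.hz.2] at hxy ⊢
    obtain ⟨j, hj⟩ := l_even D
    have : 0 < l D := Nat.card_pos
    omega
  · have h1 := (hb h h.2.1).resolve_left fun hc => h.2.2 hc.1
    exact ⟨w D * h, h1, by rw [← mul_assoc, (w_invol D).1, one_mul]⟩

/-- The elements of `C(z)` outside `N` are the coset `w C`. -/
theorem out_mem {c : G} (hc : c ∈ C D) :
    w D * c * D.z = D.z * (w D * c) ∧ w D * c ∉ N D := by
  refine ⟨by rw [mul_assoc, ((mem_C D).1 hc).2, ← mul_assoc, w_comm, mul_assoc], fun h => w_notMem D ?_⟩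
  simpa using (N D).mul_mem h ((N D).inv_mem hc.1)

theorem a_eq_l (hl : l D ≠ 2) : a D = l D := by
  refine (Nat.card_congr (Equiv.ofBijective
    (fun c : ↥(C D) => (⟨w D * c, out_mem D c.2⟩ : Out D)) ⟨fun x y h => ?_, fun h => ?_⟩)).symm
  · exact Subtype.ext (mul_left_cancel (congrArg Subtype.val h))
  · obtain ⟨c, hc, e⟩ := out_eq D hl h
    exact ⟨⟨c, hc⟩, Subtype.ext e.symm⟩

/-- The point fixed by `N`. -/
abbrev base : G ⧸ N D := ((1 : G) : G ⧸ N D)

/-- The other point fixed by `C`. -/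
noncomputable abbrev pnt : G ⧸ N D := ((w D : G) : G ⧸ N D)

theorem smul_base_iff {g : G} : g • base D = base D ↔ g ∈ N D := by
  rw [MulAction.Quotient.smul_coe, smul_eq_mul, mul_one, QuotientGroup.eq, mul_one, inv_mem_iff]

theorem smul_pnt (g : G) : g • pnt D = ((g * w D : G) : G ⧸ N D) := MulAction.Quotient.smul_coe _ _ _

theorem pnt_ne : pnt D ≠ base D := fun h => w_notMem D (by
  rw [QuotientGroup.eq, mul_one, inv_mem_iff] at h
  exact h)

theorem regular (hl : l D ≠ 2) {P : G ⧸ N D} (hP : P ≠ base D) : ∃ m ∈ D.M, m • pnt D = P := by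
  induction P using QuotientGroup.induction_on with
  | H g =>
    have hg : g ∉ N D := fun h => hP (by rw [QuotientGroup.eq, mul_one, inv_mem_iff]; exact h)
    obtain ⟨m, hm, h, m', hm', rfl⟩ := exists_pair D hg
    obtain ⟨c, hc, e⟩ := out_eq D hl h
    refine ⟨m, hm, ?_⟩
    rw [smul_pnt, QuotientGroup.eq, e,
      show (m * w D)⁻¹ * (m * (w D * c) * m') = c * m' by group]
    exact (N D).mul_mem hc.1 (M_le_N D hm')

theorem regular_unique {m m' : G} (hm : m ∈ D.M) (hm' : m' ∈ D.M) (h : m • pnt D = m' • pnt D) :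
    m = m' := by
  rw [smul_pnt, smul_pnt, QuotientGroup.eq] at h
  obtain ⟨n, hn, c, hc, e⟩ := exists_decomp D h
  set x := m⁻¹ * m' with hx
  have hxM : x ∈ D.M := D.M.mul_mem (D.M.inv_mem hm) hm'
  have hn' : c⁻¹ * n * c ∈ D.M := by
    simpa using conj_mem_M D ((N D).inv_mem hc.1) hn
  have e2 : x * (w D : G) * 1 = 1 * (w D * c) * (c⁻¹ * n * c) := by
    calc x * w D * 1 = w D * ((m * w D)⁻¹ * (m' * w D)) := by rw [hx]; group
      _ = w D * (n * c) := by rw [e]
      _ = 1 * (w D * c) * (c⁻¹ * n * c) := by group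
  have := (pair_unique D (h := ⟨w D, w_comm D, w_notMem D⟩) (h' := ⟨w D * c, out_mem D hc⟩)
    hxM D.M.one_mem D.M.one_mem hn' e2).1
  exact inv_mul_eq_one.1 this

theorem C_fix {c : G} (hc : c ∈ C D) : c • pnt D = pnt D := by
  have h := inverted D (w_comm D) (w_notMem D) hc
  rw [smul_pnt, QuotientGroup.eq]
  have e : (c * w D)⁻¹ * w D = c := by
    rw [mul_inv_rev, (w_invol D).inv_eq]
    calc w D * c⁻¹ * w D = w D * (w D * c * (w D)⁻¹) * w D := by rw [h]
      _ = (w D * w D) * c := by group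
      _ = c := by rw [(w_invol D).1, one_mul]
  rw [e]
  exact hc.1

theorem conj_pnt {c m : G} (hc : c ∈ C D) : c • m • pnt D = (c * m * c⁻¹) • pnt D := by
  conv_rhs => arg 2; rw [← C_fix D hc]
  rw [← mul_smul, ← mul_smul, inv_mul_cancel_right]

theorem m_base {m : G} (hm : m ∈ D.M) : m • pnt D ≠ base D := fun h => by
  have h1 : m • base D = base D := (smul_base_iff D).2 (M_le_N D hm)
  exact pnt_ne D (smul_left_cancel m (h.trans h1.symm))

theorem mem_two_iff {g : G} : (g • base D = base D ∧ g • pnt D = pnt D) ↔ g ∈ C D := by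
  refine ⟨fun ⟨h1, h2⟩ => ?_, fun h => ⟨(smul_base_iff D).2 h.1, C_fix D h⟩⟩
  obtain ⟨m, hm, c, hc, rfl⟩ := exists_decomp D ((smul_base_iff D).1 h1)
  rw [mul_smul, C_fix D hc] at h2
  rw [regular_unique D hm D.M.one_mem (by rw [one_smul]; exact h2), one_mul]
  exact hc

theorem two_eq :
    MulAction.stabilizer G (base D) ⊓ MulAction.stabilizer G (pnt D) = C D := by
  ext g
  rw [Subgroup.mem_inf, MulAction.mem_stabilizer_iff, MulAction.mem_stabilizer_iff]
  exact mem_two_iff D

theorem card_points (hl : l D ≠ 2) : Nat.card (G ⧸ N D) = k D + 1 := by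
  classical
  haveI := Fintype.ofFinite (G ⧸ N D)
  have e : k D = Nat.card {P : G ⧸ N D // P ≠ base D} := Nat.card_congr (Equiv.ofBijective
    (fun m : D.M => (⟨(m : G) • pnt D, m_base D m.2⟩ : {P : G ⧸ N D // P ≠ base D}))
    ⟨fun x y h => Subtype.ext (regular_unique D x.2 y.2 (congrArg Subtype.val h)), fun P => by
      obtain ⟨m, hm, e⟩ := regular D hl P.2
      exact ⟨⟨m, hm⟩, Subtype.ext e⟩⟩)
  rw [e, Nat.card_eq_fintype_card, Nat.card_eq_fintype_card, Fintype.card_subtype_compl,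
    Fintype.card_subtype_eq]
  have := Fintype.card_pos (α := G ⧸ N D)
  omega

theorem exists_to_pair (hl : l D ≠ 2) {x y : G ⧸ N D} (hxy : x ≠ y) :
    ∃ g : G, g • x = base D ∧ g • y = pnt D := by
  obtain ⟨g, hg⟩ := MulAction.exists_smul_eq G x (base D)
  obtain ⟨m, hm, hmy⟩ := regular D hl (P := g • y) fun e => hxy (smul_left_cancel g (hg.trans e.symm))
  refine ⟨m⁻¹ * g, ?_, ?_⟩
  · rw [mul_smul, hg, (smul_base_iff D).2 ((N D).inv_mem (M_le_N D hm))]
  · rw [mul_smul, ← hmy, inv_smul_smul]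

theorem eq_one_of_three (hl : l D ≠ 2) (g : G) (x y z : G ⧸ N D) (hxy : x ≠ y) (hxz : x ≠ z)
    (hyz : y ≠ z) (hx : g • x = x) (hy : g • y = y) (hz : g • z = z) : g = 1 := by
  obtain ⟨f, hfx, hfy⟩ := exists_to_pair D hl hxy
  have hcj : ∀ v : G ⧸ N D, g • v = v → (f * g * f⁻¹) • f • v = f • v := fun v hv => by
    rw [← mul_smul, inv_mul_cancel_right, mul_smul, hv]
  have hc := (mem_two_iff D (g := f * g * f⁻¹)).1
    ⟨by have := hcj x hx; rwa [hfx] at this, by have := hcj y hy; rwa [hfy] at this⟩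
  obtain ⟨m, hm, hmz⟩ := regular D hl (P := f • z) fun e => hxz (smul_left_cancel f (hfx.trans e.symm))
  have hm1 : m ≠ 1 := fun e => hyz (smul_left_cancel f (by rw [hfy, ← hmz, e, one_smul]))
  have h3 := hcj z hz
  rw [← hmz, conj_pnt D hc] at h3
  have h4 := semiregular D hc hm hm1
    (mul_inv_eq_iff_eq_mul.1 (regular_unique D (conj_mem_M D hc.1 hm) hm h3))
  exact conj_eq_one_iff.1 h4

theorem zassenhaus (hl : l D ≠ 2) : Cfsg.IsZassenhausGroup G (G ⧸ N D) := by
  classical
  have hlk := l_lt_k D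
  have h2l : 3 ≤ l D := by
    obtain ⟨j, hj⟩ := l_even D
    have : 0 < l D := Nat.card_pos
    omega
  obtain ⟨m0, hm0, hm01⟩ := D.M.bot_or_exists_ne_one.resolve_left D.hM1
  have h3ne : m0 • pnt D ≠ pnt D := fun h =>
    hm01 (regular_unique D hm0 D.M.one_mem (by rw [one_smul]; exact h))
  refine ⟨⟨fun {g g'} h => ?_⟩, ?_, fun g x y z hxy hyz hxz => eq_one_of_three D hl g x y z hxy hxz hyz,
    ⟨D.z, D.hz.2, base D, pnt D, (pnt_ne D).symm, (smul_base_iff D).2 D.hzN, C_fix D (z_mem_C D)⟩, ?_⟩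
  · refine (inv_mul_eq_one.1 (eq_one_of_three D hl (g'⁻¹ * g) (base D) (pnt D) (m0 • pnt D)
      (pnt_ne D).symm (m_base D hm0).symm h3ne.symm ?_ ?_ ?_)).symm <;>
      rw [mul_smul, h, inv_smul_smul]
  · rw [MulAction.is_two_pretransitive_iff]
    intro x y x' y' hxy hxy'
    obtain ⟨g, hg1, hg2⟩ := exists_to_pair D hl hxy
    obtain ⟨g', hg1', hg2'⟩ := exists_to_pair D hl hxy'
    refine ⟨g'⁻¹ * g, ?_, ?_⟩
    · rw [mul_smul, hg1, ← hg1', inv_smul_smul]
    · rw [mul_smul, hg2, ← hg2', inv_smul_smul]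
  · intro R hR hRt
    refine ⟨base D, fun hst => ?_⟩
    haveI := hR
    haveI := hRt
    have hfree : ∀ r ∈ R, ∀ r' ∈ R, r • base D = r' • base D → r = r' := by
      intro r hr r' hr' h
      have hfix : (r'⁻¹ * r) • base D = base D := by rw [mul_smul, h, inv_smul_smul]
      have := Subgroup.mem_bot.1 ((SetLike.ext_iff.1 hst ⟨r'⁻¹ * r, R.mul_mem (R.inv_mem hr') hr⟩).1
        (MulAction.mem_stabilizer_iff.2 hfix))
      exact (inv_mul_eq_one.1 (congrArg Subtype.val this)).symm
    have hcardR : Nat.card R = k D + 1 := by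
      rw [← card_points D hl]
      refine Nat.card_congr (Equiv.ofBijective (fun r : R => (r : G) • base D)
        ⟨fun r r' h => Subtype.ext (hfree r r.2 r' r'.2 h), fun P => ?_⟩)
      obtain ⟨r, hr⟩ := hRt.exists_smul_eq (base D) P
      exact ⟨r, hr⟩
    haveI : Fact (Nat.Prime 2) := ⟨Nat.prime_two⟩
    obtain ⟨r2, hr2⟩ := exists_prime_orderOf_dvd_card' (G := R) 2 (by
      rw [hcardR]
      obtain ⟨j, hj⟩ := k_odd D
      exact ⟨j + 1, by show Nat.card D.M + 1 = _; omega⟩)
    have hr2b : (r2 : G) • base D ≠ base D := fun h => by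
      have := hfree _ r2.2 1 R.one_mem (by rw [one_smul]; exact h)
      rw [Subtype.ext (show (r2 : G) = ((1 : R) : G) from this), orderOf_one] at hr2
      omega
    have hsq : ∀ r ∈ R, r * r = 1 := by
      intro r hr
      by_cases h1 : r • base D = base D
      · rw [hfree r hr 1 R.one_mem (by rw [one_smul]; exact h1), one_mul]
      obtain ⟨m, hm, hme⟩ := regular D hl hr2b
      obtain ⟨m', hm', hme'⟩ := regular D hl h1
      set n := m' * m⁻¹
      have hn : n ∈ D.M := D.M.mul_mem hm' (D.M.inv_mem hm)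
      have : n * r2 * n⁻¹ = r := by
        refine hfree _ (hR.conj_mem _ r2.2 n) r hr ?_
        rw [mul_smul, (smul_base_iff D).2 ((N D).inv_mem (M_le_N D hn)), mul_smul, ← hme, ← hme',
          ← mul_smul, inv_mul_cancel_right]
      have h22 : (r2 : G) * r2 = 1 := by
        rw [← Subgroup.coe_mul, ← pow_two, ← hr2, pow_orderOf_eq_one, Subgroup.coe_one]
      rw [← this, show n * r2 * n⁻¹ * (n * r2 * n⁻¹) = n * (r2 * r2) * n⁻¹ by group, h22]
      group
    have hRcomm : ∀ r ∈ R, ∀ r' ∈ R, r * r' = r' * r := fun r hr r' hr' => by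
      calc r * r' = r⁻¹ * r'⁻¹ := by
            rw [inv_eq_of_mul_eq_one_right (hsq r hr), inv_eq_of_mul_eq_one_right (hsq r' hr')]
        _ = (r' * r)⁻¹ := (mul_inv_rev _ _).symm
        _ = r' * r := inv_eq_of_mul_eq_one_right (hsq _ (R.mul_mem hr' hr))
    have hzz : D.z * D.z = 1 := D.hz.1
    let φ : R →* R :=
      { toFun := fun r => ⟨(r : G) * (D.z * r * D.z⁻¹), R.mul_mem r.2 (hR.conj_mem _ r.2 _)⟩
        map_one' := by ext; simp
        map_mul' := fun p q => by
          ext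
          simp only [Subgroup.coe_mul]
          calc (p : G) * q * (D.z * ((p : G) * q) * D.z⁻¹)
              = (p : G) * (q * (D.z * (p : G) * D.z⁻¹)) * (D.z * q * D.z⁻¹) := by group
            _ = (p : G) * ((D.z * (p : G) * D.z⁻¹) * q) * (D.z * q * D.z⁻¹) := by
                rw [hRcomm _ q.2 _ (hR.conj_mem _ p.2 _)]
            _ = _ := by group }
    have hF : Nat.card {r : R // D.z * (r : G) = (r : G) * D.z} ≤ 2 := by
      let f : {r : R // D.z * (r : G) = (r : G) * D.z} → Bool := fun r =>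
        decide (((r.1 : R) : G) • base D = base D)
      refine (Nat.card_le_card_of_injective f fun p q hpq => ?_).trans
        (by rw [Nat.card_eq_fintype_card, Fintype.card_bool])
      have key : ∀ r : {r : R // D.z * (r : G) = (r : G) * D.z},
          ((r.1 : R) : G) • base D = base D ∨ ((r.1 : R) : G) • base D = pnt D := by
        intro r
        refine or_iff_not_imp_left.2 fun h1 => ?_
        obtain ⟨m, hm, hme⟩ := regular D hl h1
        have hfix : D.z • ((r.1 : R) : G) • base D = ((r.1 : R) : G) • base D := by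
          rw [← mul_smul, r.2, mul_smul, (smul_base_iff D).2 D.hzN]
        rw [← hme, conj_pnt D (z_mem_C D), z_inv D hm] at hfix
        have := regular_unique D (D.M.inv_mem hm) hm hfix
        rw [← hme, no_invol_M D hm (inv_eq_iff_mul_eq_one.1 this), one_smul]
      simp only [f, decide_eq_decide] at hpq
      refine Subtype.ext (Subtype.ext (hfree _ p.1.2 _ q.1.2 ?_))
      rcases key p with hp | hp <;> rcases key q with hq | hq
      · rw [hp, hq]
      · exact absurd ((hpq.1 hp).symm.trans hq) (pnt_ne D).symm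
      · exact absurd ((hpq.2 hq).symm.trans hp) (pnt_ne D).symm
      · rw [hp, hq]
    have hker : Nat.card φ.ker ≤ 2 := by
      refine le_trans (Nat.card_le_card_of_injective
        (fun r : φ.ker => (⟨r.1, ?_⟩ : {r : R // D.z * (r : G) = (r : G) * D.z})) fun p q h =>
          Subtype.ext (congrArg (fun v : {r : R // D.z * (r : G) = (r : G) * D.z} => v.1) h)) hF
      have h1 : ((r.1 : R) : G) * (D.z * r.1 * D.z⁻¹) = 1 :=
        congrArg Subtype.val (MonoidHom.mem_ker.1 r.2)
      have h2 : D.z * ((r.1 : R) : G) * D.z⁻¹ = (r.1 : R) := by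
        rw [← inv_eq_of_mul_eq_one_right h1, inv_eq_of_mul_eq_one_right (hsq _ r.1.2)]
      exact mul_inv_eq_iff_eq_mul.1 h2
    have hrange : Nat.card φ.range ≤ 2 := by
      refine le_trans (Nat.card_le_card_of_injective
        (fun r : φ.range => (⟨r.1, ?_⟩ : {r : R // D.z * (r : G) = (r : G) * D.z})) fun p q h =>
          Subtype.ext (congrArg (fun v : {r : R // D.z * (r : G) = (r : G) * D.z} => v.1) h)) hF
      obtain ⟨v, p, rfl⟩ := r
      show D.z * ((p : G) * (D.z * p * D.z⁻¹)) = (p : G) * (D.z * p * D.z⁻¹) * D.z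
      have hc := hRcomm _ p.2 _ (hR.conj_mem _ p.2 D.z)
      calc D.z * ((p : G) * (D.z * p * D.z⁻¹))
          = (D.z * p * D.z⁻¹) * ((D.z * D.z) * p * (D.z * D.z)⁻¹) * D.z := by group
        _ = (p : G) * (D.z * p * D.z⁻¹) * D.z := by rw [hzz, inv_one, one_mul, mul_one, hc]
    have htot : Nat.card R = Nat.card φ.range * Nat.card φ.ker := by
      rw [← Nat.card_congr (QuotientGroup.quotientKerEquivRange φ).toEquiv]
      exact Subgroup.card_eq_card_quotient_mul_card_subgroup _
    have := Nat.mul_le_mul hrange hker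
    omega

theorem isKer (hl : l D ≠ 2) : H28.Zass.IsKer (base D) D.M := by
  refine ⟨fun m hm => (smul_base_iff D).2 (M_le_N D hm), (card_points D hl).symm, fun m hm hm1 P hP => ?_⟩
  by_contra hne
  obtain ⟨n, hn, rfl⟩ := regular D hl hne
  rw [← mul_smul] at hP
  exact hm1 (mul_eq_right.1 (regular_unique D (D.M.mul_mem hm hn) hn hP))

theorem card_two_pts :
    Nat.card ↥(MulAction.stabilizer G (base D) ⊓ MulAction.stabilizer G (pnt D)) = l D := by
  rw [two_eq D]

theorem k_cases (hl : l D ≠ 2) : k D = l D + 1 ∨ k D = 2 * l D + 1 := by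
  obtain ⟨i, hi⟩ := l_dvd D
  have h1 := k_le D
  rw [a_eq_l D hl] at h1
  have h2 := l_lt_k D
  have h3 : i ≤ 2 := by
    have h : l D * i ≤ l D * 2 := by omega
    exact Nat.le_of_mul_le_mul_left h Nat.card_pos
  interval_cases i <;> omega

theorem kernel_elementary (hl : l D ≠ 2) :
    ∃ p f : ℕ, p.Prime ∧ Cfsg.IsElementaryAbelian p D.M ∧ k D = p ^ f := by
  haveI := Fintype.ofFinite (G ⧸ N D)
  have hcard : Fintype.card (G ⧸ N D) = k D + 1 := by rw [← Nat.card_eq_fintype_card, card_points D hl]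
  have hk := k_cases D hl
  obtain ⟨hc, p, f, hp, hexp, hf⟩ := S0738.result (zassenhaus D hl) (pnt_ne D).symm
    (by rw [card_two_pts D, hcard]; omega) D.M (fun m hm => (smul_base_iff D).2 (M_le_N D hm))
    (by
      refine (Subgroup.normal_subgroupOf_iff fun m hm => (smul_base_iff D).2 (M_le_N D hm)).2
        fun m n hm hn => conj_mem_M D ((smul_base_iff D).1 hn) hm)
    (fun y z hy hz => by
      obtain ⟨m, hm, rfl⟩ := regular D hl hy
      obtain ⟨n, hn, rfl⟩ := regular D hl hz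
      refine ⟨⟨n * m⁻¹, D.M.mul_mem hn (D.M.inv_mem hm)⟩, ?_, fun u hu => ?_⟩
      · show (n * m⁻¹) • m • pnt D = n • pnt D
        rw [← mul_smul, inv_mul_cancel_right]
      · have hu' : ((u : G) * m) • pnt D = n • pnt D := by rw [mul_smul]; exact hu
        apply Subtype.ext
        show (u : G) = n * m⁻¹
        rw [eq_mul_inv_iff_mul_eq]
        exact regular_unique D (D.M.mul_mem u.2 hm) hn hu')
  exact ⟨p, f, hp, ⟨hc, hexp⟩, by omega⟩

/-- The marked data for a sharply triply transitive action. -/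
theorem pgl (hl : l D ≠ 2) (hk : k D = l D + 1) :
    ∃ (F : Type) (_ : Field F) (_ : Fintype F), Fintype.card F = k D ∧
      Nonempty (G ≃* Matrix.ProjGenLinGroup (Fin 2) F) := by
  classical
  haveI := Fintype.ofFinite (G ⧸ N D)
  obtain ⟨m0, hm0, hm01⟩ := D.M.bot_or_exists_ne_one.resolve_left D.hM1
  have h3ne : m0 • pnt D ≠ pnt D := fun h =>
    hm01 (regular_unique D hm0 D.M.one_mem (by rw [one_smul]; exact h))
  have hC : ∀ m ∈ D.M, m ≠ 1 → ∃ c ∈ C D, c • m0 • pnt D = m • pnt D := by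
    let f : ↥(C D) → {x : D.M // x ≠ 1} := fun c =>
      ⟨⟨(c : G) * m0 * (c : G)⁻¹, conj_mem_M D c.2.1 hm0⟩, fun h =>
        hm01 (conj_eq_one_iff.1 (congrArg Subtype.val h))⟩
    have hf : Function.Injective f := by
      intro c d h
      have e : (c : G) * m0 * (c : G)⁻¹ = (d : G) * m0 * (d : G)⁻¹ :=
        congrArg (fun v : {x : D.M // x ≠ 1} => ((v.1 : D.M) : G)) h
      have h1 := semiregular D ((C D).mul_mem ((C D).inv_mem d.2) c.2) hm0 hm01 (by
        calc (d : G)⁻¹ * c * m0 = (d : G)⁻¹ * ((c : G) * m0 * (c : G)⁻¹) * c := by group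
          _ = m0 * ((d : G)⁻¹ * c) := by rw [e]; group)
      exact Subtype.ext (inv_mul_eq_one.1 h1).symm
    have hcard : Nat.card {x : D.M // x ≠ 1} ≤ l D := by
      haveI := Fintype.ofFinite D.M
      rw [Nat.card_eq_fintype_card, Fintype.card_subtype_compl, Fintype.card_subtype_eq,
        ← Nat.card_eq_fintype_card]
      show k D - 1 ≤ l D
      omega
    intro m hm hm1
    obtain ⟨c, hc⟩ := (hf.bijective_of_nat_card_le hcard).2
      ⟨⟨m, hm⟩, fun h => hm1 (congrArg Subtype.val h)⟩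
    refine ⟨c, c.2, ?_⟩
    rw [conj_pnt D c.2]
    exact congrArg (fun v : {x : D.M // x ≠ 1} => ((v.1 : D.M) : G) • pnt D) hc
  have hto : ∀ x y z : G ⧸ N D, x ≠ y → x ≠ z → y ≠ z →
      ∃ g : G, g • x = base D ∧ g • y = pnt D ∧ g • z = m0 • pnt D := by
    intro x y z hxy hxz hyz
    obtain ⟨g, hgx, hgy⟩ := exists_to_pair D hl hxy
    obtain ⟨m, hm, hmz⟩ := regular D hl (P := g • z) fun e => hxz (smul_left_cancel g (hgx.trans e.symm))
    obtain ⟨c, hc, hce⟩ := hC m hm fun e => hyz (smul_left_cancel g (by rw [hgy, ← hmz, e, one_smul]))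
    obtain ⟨h1, h2⟩ := (mem_two_iff D).2 ((C D).inv_mem hc)
    exact ⟨c⁻¹ * g, by rw [mul_smul, hgx, h1], by rw [mul_smul, hgy, h2],
      by rw [mul_smul, ← hmz, ← hce, inv_smul_smul]⟩
  let S : H33.SharpField.Data G (G ⧸ N D) :=
    { a := base D
      b := pnt D
      c := m0 • pnt D
      hab := (pnt_ne D).symm
      hac := (m_base D hm0).symm
      hbc := h3ne.symm
      fix3 := eq_one_of_three D hl
      trans3 := fun x y z x' y' z' h1 h2 h3 h4 h5 h6 => by
        obtain ⟨g, g1, g2, g3⟩ := hto x y z h1 h2 h3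
        obtain ⟨g', g1', g2', g3'⟩ := hto x' y' z' h4 h5 h6
        exact ⟨g'⁻¹ * g, by rw [mul_smul, g1, ← g1', inv_smul_smul],
          by rw [mul_smul, g2, ← g2', inv_smul_smul], by rw [mul_smul, g3, ← g3', inv_smul_smul]⟩
      T := D.M
      T_a := fun m hm => (smul_base_iff D).2 (M_le_N D hm)
      T_b := fun P hP => regular D hl hP
      T_free := fun m hm h => regular_unique D hm D.M.one_mem (by rw [one_smul]; exact h)
      T_conj := fun g hg m hm => conj_mem_M D ((smul_base_iff D).1 hg) hm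
      T_odd := fun m hm h => no_invol_M D hm h
      H_comm := fun g g' h1 h2 h3 h4 =>
        C_comm D ((mem_two_iff D).1 ⟨h1, h2⟩) ((mem_two_iff D).1 ⟨h3, h4⟩) }
  haveI := (zassenhaus D hl).1
  exact S.exists_field (by rw [← Nat.card_eq_fintype_card, card_points D hl])
    fun g hg => FaithfulSMul.eq_of_smul_eq_smul (α := G ⧸ N D) fun y => by rw [one_smul]; exact hg y

/-- `|C_N(z)| > 2` gives `PGL(2, q)` or `PSL(2, q)`. -/
theorem case_big (hl : l D ≠ 2) :
    ∃ (F : Type) (_ : Field F) (_ : Fintype F) (p : ℕ) (_ : Fact p.Prime) (_ : CharP F p),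
      Fintype.card F = Nat.card D.M ∧ Cfsg.IsElementaryAbelian p D.M ∧
      (Nonempty (G ≃* (GL (Fin 2) F ⧸ Subgroup.center (GL (Fin 2) F))) ∨
       (Fintype.card F % 4 = 1 ∧ Nonempty (G ≃* Matrix.ProjectiveSpecialLinearGroup (Fin 2) F))) := by
  obtain ⟨p, f, hp, hel, hpf⟩ := kernel_elementary D hl
  haveI := Fact.mk hp
  have hchar : ∀ (F : Type) [Field F] [Fintype F], Fintype.card F = k D → CharP F p := by
    intro F _ _ hF
    obtain ⟨r, hr⟩ := CharP.exists F
    haveI := hr
    obtain ⟨n, hrp, hn⟩ := FiniteField.card F r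
    have hd : r ∣ p ^ f := by rw [← hpf, ← hF, hn]; exact dvd_pow_self r n.pos.ne'
    rwa [← (Nat.prime_dvd_prime_iff_eq hrp hp).1 (hrp.dvd_of_dvd_pow hd)]
  rcases k_cases D hl with hk | hk
  · obtain ⟨F, hF1, hF2, hFc, ⟨e⟩⟩ := pgl D hl hk
    exact ⟨F, hF1, hF2, p, ‹_›, hchar F hFc, hFc, hel, Or.inl ⟨e⟩⟩
  · obtain ⟨F, hF1, hF2, -, hFc, he⟩ := H28.Zass.half_equiv (isKer D hl) (zassenhaus D hl)
      (pnt_ne D).symm (fun u hu v hv => M_comm D hu hv) (by rw [card_two_pts D]; exact hk.symm)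
    refine ⟨F, hF1, hF2, p, ‹_›, hchar F hFc, hFc, hel, Or.inr ⟨?_, he⟩⟩
    obtain ⟨j, hj⟩ := l_even D
    have e1 : Fintype.card F = k D := hFc
    omega

end Cfsg.Agent.H46.TIOdd
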